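import Mathlib.AlgebraicGeometry.AffineTransitionLimit
import Groth.Agent.AffLim.Presentation

/-! The local scheme at a point as the limit of the affine neighbourhoods, and base changes. -/

set_option autoImplicit false
set_option linter.style.haveILetI false
set_option backward.isDefEq.respectTransparency false
set_option backward.defeqAttrib.useBackward true

universe u
open CategoryTheory CategoryTheory.Limits AlgebraicGeometry Opposite

noncomputable section

namespace Groth.Agent.SubmEtSpread

variable (S : Scheme.{u}) (a : S)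

/-- An affine open neighbourhood. -/
structure Nhd : Type u where
  V : S.Opens
  isAffine : IsAffineOpen V
  mem : a ∈ V

namespace Nhd

instance : Preorder (Nhd S a) := Preorder.lift Nhd.V

variable {S a}

theorem exists_le {W : S.Opens} (h : a ∈ W) : ∃ k : Nhd S a, k.V ≤ W := by
  obtain ⟨_, ⟨V, hV, rfl⟩, hx, hVW⟩ := S.isBasis_affineOpens.exists_subset_of_mem_open h W.2
  exact ⟨⟨V, hV, hx⟩, hVW⟩

instance : Nonempty (Nhd S a) := ⟨(exists_le (W := ⊤) (Set.mem_univ a)).choose⟩

instance : IsCofiltered (Nhd S a) := by
  haveI : IsDirected (Nhd S a) (· ≥ ·) := ⟨fun j k => by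
    obtain ⟨l, hl⟩ := exists_le (W := j.V ⊓ k.V) ⟨j.mem, k.mem⟩
    exact ⟨l, hl.trans inf_le_left, hl.trans inf_le_right⟩⟩
  exact isCofiltered_of_directed_ge_nonempty _

variable (S a)

/-- The rings of sections. -/
def rings : (Nhd S a)ᵒᵈ ⥤ CommRingCat.{u} where
  obj k := Γ(S, (OrderDual.ofDual k).V)
  map {j k} h := S.presheaf.map (homOfLE (show (OrderDual.ofDual k).V ≤ (OrderDual.ofDual j).V from leOfHom h)).op
  map_id k := S.presheaf.map_id _
  map_comp h h' := by rw [← S.presheaf.map_comp]; rfl

/-- The stalk as cocone. -/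
def ringsCocone : Cocone (rings S a) where
  pt := S.presheaf.stalk a
  ι := { app := fun k => S.presheaf.germ (OrderDual.ofDual k).V a (OrderDual.ofDual k).mem
         naturality := fun j k h => by
           simp [rings, TopCat.Presheaf.germ_res] }

theorem nonempty_isColimit_rings : Nonempty (IsColimit (ringsCocone S a)) := by
  haveI : IsDirected (Nhd S a)ᵒᵈ (· ≤ ·) := ⟨fun j k => by
    obtain ⟨l, hl⟩ := exists_le (W := (OrderDual.ofDual j).V ⊓ (OrderDual.ofDual k).V) ⟨(OrderDual.ofDual j).mem, (OrderDual.ofDual k).mem⟩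
    exact ⟨OrderDual.toDual l, hl.trans inf_le_left, hl.trans inf_le_right⟩⟩
  refine AffLim.nonempty_isColimit_of_elementwise _ (fun x => ?_) (fun j x y e => ?_)
  · obtain ⟨W, hW, s, rfl⟩ := S.presheaf.exists_germ_eq x
    obtain ⟨k, hk⟩ := exists_le hW
    exact ⟨OrderDual.toDual k, S.presheaf.map (homOfLE hk).op s, TopCat.Presheaf.germ_res_apply _ (homOfLE hk) a k.mem s⟩
  · obtain ⟨W, hW, i₁, i₂, e'⟩ := S.presheaf.germ_eq a (OrderDual.ofDual j).mem (OrderDual.ofDual j).mem _ _ e
    obtain ⟨k, hk⟩ := exists_le hW
    refine ⟨OrderDual.toDual k, show k.V ≤ _ from hk.trans (leOfHom i₁), ?_⟩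
    have := congrArg (S.presheaf.map (homOfLE hk).op) e'
    simp only [← CategoryTheory.comp_apply, ← S.presheaf.map_comp] at this
    exact this

/-- The system of affine neighbourhoods. -/
def sys : Nhd S a ⥤ Scheme.{u} where
  obj k := Spec Γ(S, k.V)
  map {j k} h := Spec.map (S.presheaf.map (homOfLE (show j.V ≤ k.V from leOfHom h)).op)
  map_id k := by
    rw [show (homOfLE (le_refl k.V)).op = 𝟙 (op k.V) from rfl, S.presheaf.map_id]
    exact Spec.map_id _
  map_comp h h' := by rw [← Spec.map_comp, ← S.presheaf.map_comp]; rfl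

/-- The local scheme as a cone. -/
def cone : Cone (sys S a) where
  pt := Spec (S.presheaf.stalk a)
  π := { app := fun k => Spec.map (S.presheaf.germ k.V a k.mem)
         naturality := fun j k h => by
           simp [sys, ← Spec.map_comp, TopCat.Presheaf.germ_res] }

instance (k : Nhd S a) : IsAffine ((sys S a).obj k) := inferInstanceAs (IsAffine (Spec _))
instance {j k : Nhd S a} (h : j ⟶ k) : IsAffineHom ((sys S a).map h) := isAffineHom_of_isAffine _

theorem nonempty_isLimit_cone : Nonempty (IsLimit (cone S a)) := by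
  obtain ⟨h⟩ := nonempty_isColimit_rings S a
  let E : Nhd S a ⥤ ((Nhd S a)ᵒᵈ)ᵒᵖ :=
    { obj := fun k => op (OrderDual.toDual k)
      map := fun {j k} h => (homOfLE (show OrderDual.toDual k ≤ OrderDual.toDual j from leOfHom h)).op
      map_id := fun _ => rfl
      map_comp := fun _ _ => rfl }
  haveI : E.IsEquivalence :=
    { full := ⟨fun {j k} g => ⟨homOfLE (show j ≤ k from leOfHom g.unop), Quiver.Hom.unop_inj (Subsingleton.elim _ _)⟩⟩
      faithful := ⟨fun {j k} _ _ _ => Subsingleton.elim _ _⟩
      essSurj := ⟨fun k => ⟨OrderDual.ofDual k.unop, ⟨Iso.refl _⟩⟩⟩ }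
  have h' := (Functor.Initial.isLimitWhiskerEquiv E _).symm (isLimitOfPreserves Scheme.Spec h.op)
  exact ⟨IsLimit.equivOfNatIsoOfIso (NatIso.ofComponents (fun k => Iso.refl _) (fun {j k} g => by
      simp only [Iso.refl_hom, Category.comp_id, Category.id_comp])) _ _
    (Cone.ext (Iso.refl _) fun k => by simp only [Iso.refl_hom]; erw [Category.id_comp]) h'⟩

/-- The open immersions of the stages. -/
def toBase : sys S a ⟶ (Functor.const _).obj S where
  app k := k.isAffine.fromSpec
  naturality j k h := by
    simpa [sys] using k.isAffine.map_fromSpec j.isAffine (homOfLE (show j.V ≤ k.V from leOfHom h)).op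

instance (k : Nhd S a) : IsOpenImmersion ((toBase S a).app k) := inferInstanceAs (IsOpenImmersion k.isAffine.fromSpec)

theorem map_toBase {j k : Nhd S a} (h : j ⟶ k) : (sys S a).map h ≫ (toBase S a).app k = (toBase S a).app j :=
  ((toBase S a).naturality h).trans (Category.comp_id _)

theorem π_toBase (k : Nhd S a) : (cone S a).π.app k ≫ (toBase S a).app k = S.fromSpecStalk a :=
  k.isAffine.fromSpecStalk_eq_fromSpecStalk k.mem

variable {B : Scheme.{u}} (b : B ⟶ S)

/-- The base change system. -/
def bsys : Nhd S a ⥤ Scheme.{u} where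
  obj k := pullback b ((toBase S a).app k)
  map {j k} h := pullback.lift (pullback.fst _ _) (pullback.snd _ _ ≫ (sys S a).map h)
    (by rw [Category.assoc, map_toBase, pullback.condition])
  map_id k := by apply pullback.hom_ext <;> simp
  map_comp h h' := by apply pullback.hom_ext <;> simp

/-- The base change cone. -/
def bcone : Cone (bsys S a b) where
  pt := pullback b (S.fromSpecStalk a)
  π :=
    { app := fun k => pullback.lift (pullback.fst _ _) (pullback.snd _ _ ≫ (cone S a).π.app k)
        (by rw [Category.assoc, π_toBase, pullback.condition])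
      naturality := fun j k h => by apply pullback.hom_ext <;> simp [bsys] }

theorem nonempty_isLimit_bcone : Nonempty (IsLimit (bcone S a b)) := by
  obtain ⟨hc⟩ := nonempty_isLimit_cone S a
  haveI : IsConnected (Nhd S a) := IsCofiltered.isConnected _
  let α : bsys S a b ⟶ sys S a :=
    { app := fun k => pullback.snd _ _
      naturality := fun j k h => by simp [bsys] }
  refine ⟨isLimitOfIsPullbackOfIsConnected α (bcone S a b) (cone S a)
    { hom := pullback.snd _ _, w := fun j => by simp [α, bcone] } (fun j => ?_) hc⟩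
  refine IsPullback.of_bot ?_ (by simp [α, bcone]) (IsPullback.of_hasPullback b ((toBase S a).app j)).flip |>.flip
  simpa [bcone, π_toBase] using (IsPullback.of_hasPullback b (S.fromSpecStalk a)).flip

/-- The base change system over `S`. -/
def bsysToBase : bsys S a b ⟶ (Functor.const _).obj S where
  app k := pullback.fst _ _ ≫ b
  naturality j k h := by simp [bsys]

instance isAffineHom_bsys {j k : Nhd S a} (h : j ⟶ k) : IsAffineHom ((bsys S a b).map h) := by
  have : IsPullback ((bsys S a b).map h) (pullback.snd _ _) (pullback.snd _ _) ((sys S a).map h) := by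
    refine IsPullback.of_right ?_ (pullback.lift_snd _ _ _) (IsPullback.of_hasPullback b _)
    simpa [bsys, map_toBase] using IsPullback.of_hasPullback b ((toBase S a).app j)
  exact MorphismProperty.of_isPullback this.flip inferInstance

instance [QuasiCompact b] (k : Nhd S a) : CompactSpace ((bsys S a b).obj k) :=
  QuasiCompact.compactSpace_of_compactSpace (Y := Spec Γ(S, k.V)) (pullback.snd b ((toBase S a).app k))

instance [QuasiSeparated b] (k : Nhd S a) : QuasiSeparatedSpace ((bsys S a b).obj k) :=
  quasiSeparatedSpace_of_quasiSeparated (Y := Spec Γ(S, k.V)) (pullback.snd b ((toBase S a).app k))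

end Nhd

end Groth.Agent.SubmEtSpread
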