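import Groth.Agent.SubmEtSpread.Spread

/-! Effectivity at a local scheme and on a neighbourhood. -/

set_option autoImplicit false
set_option linter.style.haveILetI false
set_option backward.isDefEq.respectTransparency false

universe u
open CategoryTheory CategoryTheory.Limits AlgebraicGeometry

noncomputable section

namespace Groth.Agent.SubmEtSpread

open _root_.Desc (SchDD SchDDFam toDD toDDFam pullDDFam)

/-- The pulled back datum over `f` is effective by an étale scheme. -/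
abbrev EffAt {S S' P : Scheme.{u}} {g : S' ⟶ S} (D : SchDDFam (fun _ : PUnit.{1} => g)) (f : P ⟶ S) : Prop :=
  ∃ U : Over P, Etale U.hom ∧
    Nonempty ((toDDFam (fun _ : PUnit.{1} => pullback.snd g f)).obj U ≅
      (pullDDFam (f := fun _ : PUnit.{1} => g) (f' := fun _ : PUnit.{1} => pullback.snd g f)
        (α := id) (p := f) (p' := fun _ => pullback.fst g f) (fun _ => pullback.condition)).obj D)

theorem effAt_iff {S S' P : Scheme.{u}} {g : S' ⟶ S} (D : SchDDFam (fun _ : PUnit.{1} => g)) (f : P ⟶ S) :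
    EffAt D f ↔ ∃ (U : Scheme.{u}) (str : U ⟶ P)
      (π : pullback (dHom ((_root_.Desc.SchDDFam.toSchDD g).obj D)) f ⟶ U),
      Etale str ∧ IsQuot ((_root_.Desc.SchDDFam.toSchDD g).obj D) f str π := by
  constructor
  · rintro ⟨U, hU, ⟨e⟩⟩
    obtain ⟨π, hπ⟩ := exists_isQuot_of_iso f U e
    exact ⟨_, U.hom, π, hU, hπ⟩
  · rintro ⟨U, str, π, hU, hπ⟩
    exact ⟨Over.mk str, hU, nonempty_iso_of_isQuot hπ⟩

/-- Effectivity is stable under base change. -/
theorem EffAt.of_comp {S S' P P' : Scheme.{u}} {g : S' ⟶ S} {D : SchDDFam (fun _ : PUnit.{1} => g)} {f : P ⟶ S}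
    (H : EffAt D f) {f' : P' ⟶ S} (h : P' ⟶ P) (e : h ≫ f = f') : EffAt D f' := by
  obtain ⟨U, str, π, hU, hπ⟩ := (effAt_iff D f).1 H
  obtain ⟨π', hπ', -⟩ := hπ.baseChange e (IsPullback.of_hasPullback str h)
  exact (effAt_iff D f').2 ⟨_, _, π', MorphismProperty.pullback_snd _ _ hU, hπ'⟩

/-- Effectivity over the whole base. -/
theorem effAt_of_effective {S S' P : Scheme.{u}} {g : S' ⟶ S} (D : SchDDFam (fun _ : PUnit.{1} => g)) (f : P ⟶ S)
    (H : ∃ U : Over S, Etale U.hom ∧ Nonempty ((toDDFam (fun _ : PUnit.{1} => g)).obj U ≅ D)) : EffAt D f := by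
  obtain ⟨U, hU, ⟨e⟩⟩ := H
  haveI := hU
  have h := (inferInstance : Etale U.hom)
  exact EffAt.of_comp (f := (⊤ : S.Opens).ι)
    ⟨(Over.pullback _).obj U, MorphismProperty.pullback_snd _ _ hU,
      ⟨SubmEtLib.pullCanIso U ⊤ ≪≫ Functor.mapIso _ e⟩⟩
    (f ≫ (Scheme.topIso S).inv) (by rw [Category.assoc, ← Scheme.topIso_hom, Iso.inv_hom_id, Category.comp_id])

theorem exists_nhd_of_stalk {S S' : Scheme.{u}} (g : S' ⟶ S) (hg : SGA1.UnivSubmersive g)
    [LocallyOfFinitePresentation g] [QuasiCompact g] [QuasiSeparated g]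
    (D : SchDDFam (fun _ : PUnit.{1} => g)) [Etale (D.obj PUnit.unit).hom]
    [QuasiCompact (D.obj PUnit.unit).hom] [QuasiSeparated (D.obj PUnit.unit).hom] (a : S)
    (H : EffAt D (S.fromSpecStalk a)) : ∃ W : S.Opens, a ∈ W ∧ EffAt D W.ι := by
  haveI := SubmEtLib.surjective_of_univSubmersive hg
  let D₀ := (_root_.Desc.SchDDFam.toSchDD g).obj D
  haveI : Etale D₀.obj.hom := ‹Etale (D.obj PUnit.unit).hom›
  haveI : QuasiCompact D₀.obj.hom := ‹QuasiCompact (D.obj PUnit.unit).hom›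
  haveI : QuasiSeparated D₀.obj.hom := ‹QuasiSeparated (D.obj PUnit.unit).hom›
  obtain ⟨U, str, π, hU, hπ⟩ := (effAt_iff D _).1 H
  haveI := hU
  obtain ⟨k, V, t, π', ht, hπ'⟩ := exists_nhd_quot hπ
  refine ⟨k.V, k.mem, EffAt.of_comp ((effAt_iff D _).2 ⟨V, t, π', ht, hπ'⟩) k.isAffine.isoSpec.hom ?_⟩
  exact k.isAffine.isoSpec_hom_fromSpec

end Groth.Agent.SubmEtSpread
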