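import Groth.Agent.SubmEtSpread.FpqcBase
import Groth.Agent.RegLocal.Completion
import Groth.Agent.S2363
import Groth.Agent.SubmEtLib.Descends

/-! Effectivity tested on completed local rings. -/

set_option autoImplicit false
set_option linter.style.haveILetI false
set_option backward.isDefEq.respectTransparency false
set_option backward.isDefEq.respectTransparency.types false

universe u
open CategoryTheory CategoryTheory.Limits AlgebraicGeometry IsLocalRing

noncomputable section

namespace Groth.Agent.SubmEtSpread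

open Groth.Agent.SchDesc
open _root_.Desc (SchDD SchDDFam)

variable {X S : Scheme.{u}} {p : X ⟶ S} {D : SchDD p} {P U : Scheme.{u}} {f : P ⟶ S} {str : U ⟶ P}
  {π : pullback (dHom D) f ⟶ U}

theorem IsQuot.isSeparated (hQ : IsQuot D f str π) (hp : SGA1.UnivSubmersive p) [IsSeparated D.obj.hom]
    [Etale str] : IsSeparated str := by
  let g' := pullback.snd p f
  have hg' : SGA1.UnivSubmersive g' := MorphismProperty.pullback_snd (P := MorphismProperty.universally _) _ _ hp
  let l := ofBC D f ≫ pullback.snd _ _
  have hl : IsSeparated l := inferInstance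
  have hsq : IsPullback l π g' str := by
    refine IsPullback.of_right (h₁₂ := pullback.fst p f) (v₁₃ := p) (h₂₂ := f) ?_ ?_ (IsPullback.of_hasPullback p f)
    · rw [show l ≫ pullback.fst p f = pullback.fst (dHom D) f ≫ D.obj.hom from
        (Category.assoc _ _ _).trans (ofBC_snd_fst D f)]
      exact hQ.isPullback.flip
    · rw [show l ≫ g' = pullback.snd (dHom D) f from (Category.assoc _ _ _).trans (ofBC_snd_snd D f), hQ.fac]
  haveI : IsSeparated (pullback.snd str g') := by
    rw [← hsq.flip.isoPullback_inv_snd]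
    haveI := hl
    infer_instance
  haveI : IsSeparated (pullback.snd (str ≫ 𝟙 P) g') := by rw [Category.comp_id]; infer_instance
  refine SubmEtLib.isSeparated_of_bcMap g' str (𝟙 P) hg' ?_
  have : SubmEtLib.bcMap g' str (𝟙 P) ≫ pullback.snd (𝟙 P) g' = pullback.snd (str ≫ 𝟙 P) g' := by
    simp [SubmEtLib.bcMap]
  haveI : IsSeparated (SubmEtLib.bcMap g' str (𝟙 P) ≫ pullback.snd (𝟙 P) g') := by rw [this]; infer_instance
  exact IsSeparated.of_comp _ (pullback.snd (𝟙 P) g')

theorem IsQuot.quasiCompact (hQ : IsQuot D f str π) [Surjective p] [QuasiCompact (dHom D)] : QuasiCompact str := by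
  haveI : Surjective π := MorphismProperty.of_isPullback (P := @Surjective) hQ.isPullback.flip inferInstance
  refine ⟨fun K hK hKc => ?_⟩
  rw [← Set.image_preimage_eq (str ⁻¹' K) π.surjective]
  refine IsCompact.image ?_ π.continuous
  rw [← Set.preimage_comp, show (str : U → P) ∘ (π : _ → U) = (pullback.snd (dHom D) f : _ → P) from
    funext fun z => by rw [Function.comp_apply, ← Scheme.Hom.comp_apply, hQ.fac]]
  exact (pullback.snd (dHom D) f).isCompact_preimage (U := ⟨K, hK⟩) hKc

/-- Effectivity descends along a faithfully flat quasi-compact change of base. -/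
theorem effAt_of_baseChange {S S' P P₁ : Scheme.{u}} {g : S' ⟶ S} (hg : SGA1.UnivSubmersive g) [QuasiCompact g]
    (D : SchDDFam (fun _ : PUnit.{1} => g)) [QuasiCompact (D.obj PUnit.unit).hom] [IsSeparated (D.obj PUnit.unit).hom]
    {f : P ⟶ S} {f₁ : P₁ ⟶ S} (q : P₁ ⟶ P) [Flat q] [Surjective q] [QuasiCompact q] (e : q ≫ f = f₁)
    (H : EffAt D f₁) : EffAt D f := by
  obtain ⟨U, str, π, hU, hπ⟩ := (effAt_iff D f₁).1 H
  haveI := hU
  haveI := SubmEtLib.surjective_of_univSubmersive hg
  let D₀ := (_root_.Desc.SchDDFam.toSchDD g).obj D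
  haveI : IsSeparated D₀.obj.hom := ‹IsSeparated (D.obj PUnit.unit).hom›
  haveI : QuasiCompact D₀.obj.hom := ‹QuasiCompact (D.obj PUnit.unit).hom›
  haveI := hπ.isSeparated hg
  haveI := hπ.quasiCompact
  obtain ⟨V, h1, -, -, π', hπ'⟩ := exists_isQuot_desc hg hπ e
  exact (effAt_iff D f).2 ⟨_, V.hom, π', h1, hπ'⟩

theorem surjective_flat_specMap {A B : Type u} [CommRing A] [CommRing B] [Algebra A B] [Module.FaithfullyFlat A B] :
    Flat (Spec.map (CommRingCat.ofHom (algebraMap A B))) ∧ Surjective (Spec.map (CommRingCat.ofHom (algebraMap A B))) :=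
  ⟨(HasRingHomProperty.Spec_iff (P := @Flat)).mpr (RingHom.flat_algebraMap_iff.mpr inferInstance),
    ⟨PrimeSpectrum.comap_surjective_of_faithfullyFlat⟩⟩

theorem effective_of_completions {S S' : Scheme.{u}} [IsLocallyNoetherian S] (g : S' ⟶ S)
    (hg : SGA1.UnivSubmersive g) [LocallyOfFinitePresentation g] [QuasiCompact g] [QuasiSeparated g]
    (D : SchDDFam (fun _ : PUnit.{1} => g)) [Etale (D.obj PUnit.unit).hom]
    [QuasiCompact (D.obj PUnit.unit).hom] [IsSeparated (D.obj PUnit.unit).hom]
    (H : ∀ a : S, EffAt D (S.fromSpecStalk a)) :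
    ∃ U : Over S, Etale U.hom ∧ Nonempty ((_root_.Desc.toDDFam (fun _ : PUnit.{1} => g)).obj U ≅ D) := by
  choose W ha hW using fun a => exists_nhd_of_stalk g hg D a (H a)
  exact (SubmEtLib.isEffective_iff_openCover g hg D W (top_le_iff.mp fun a _ =>
    TopologicalSpace.Opens.mem_iSup.mpr ⟨a, ha a⟩)).2 hW

theorem faithfullyFlat_adicCompletion (A : Type u) [CommRing A] [IsNoetherianRing A] [IsLocalRing A] :
    Module.FaithfullyFlat A (AdicCompletion (maximalIdeal A) A) :=
  RegLocal.faithfullyFlat_completion A _ (maximalIdeal.isMaximal A).ne_top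

/-- A complete faithfully flat extension with algebraically closed residue field and the same closed fibre. -/
theorem exists_complete_algClosed' (A : Type u) [CommRing A] [IsNoetherianRing A] [IsLocalRing A] :
    ∃ (B : Type u) (_ : CommRing B) (_ : Algebra A B) (_ : IsNoetherianRing B) (_ : IsLocalRing B)
      (_ : IsAdicComplete (maximalIdeal B) B) (_ : IsAlgClosed (ResidueField B)) (_ : Module.FaithfullyFlat A B),
      (maximalIdeal A).map (algebraMap A B) = maximalIdeal B := by
  let K := AlgebraicClosure (ResidueField A)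
  obtain ⟨B, _, _, hN, hL, hloc, hflat, e, -⟩ := Groth.Agent.S2363.result (A := A) K
  haveI := hN; haveI := hL; haveI := hloc; haveI := hflat
  haveI : Module.FaithfullyFlat A B := Module.FaithfullyFlat.of_flat_of_isLocalHom
  have hfg := (maximalIdeal B).fg_of_isNoetherianRing
  have hm : (maximalIdeal A).map (algebraMap A B) = maximalIdeal B := by
    refine IsLocalRing.eq_maximalIdeal (Ideal.Quotient.maximal_of_isField _ ?_)
    exact e.toMulEquiv.isField (Field.toIsField K)
  let Bh := AdicCompletion (maximalIdeal B) B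
  haveI : IsNoetherianRing Bh := RegLocal.isNoetherianRing_completion B _
  haveI : Module.FaithfullyFlat B Bh := faithfullyFlat_adicCompletion B
  haveI : IsAdicComplete (maximalIdeal Bh) Bh := by
    show IsAdicComplete (maximalIdeal (AdicCompletion (maximalIdeal B) B)) (AdicCompletion (maximalIdeal B) B)
    rw [AdicCompletion.maximalIdeal_eq_map_of_fg hfg]
    exact AdicCompletion.isAdicComplete_self _ hfg
  have hker : RingHom.ker (AdicCompletion.evalOneₐ (maximalIdeal B)).toRingHom = maximalIdeal Bh := by
    show RingHom.ker (AdicCompletion.evalOneₐ (maximalIdeal B)).toRingHom =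
      maximalIdeal (AdicCompletion (maximalIdeal B) B)
    rw [AdicCompletion.maximalIdeal_eq_map_of_fg hfg]
    exact AdicCompletion.ker_evalOneₐ_eq_map _ hfg
  haveI : IsAlgClosed (ResidueField Bh) := by
    let e₂ : ResidueField Bh ≃+* (B ⧸ maximalIdeal B) :=
      (Ideal.quotEquivOfEq hker.symm).trans
        (RingHom.quotientKerEquivOfSurjective (AdicCompletion.evalOneₐ_surjective (maximalIdeal B)))
    let e₃ : ResidueField Bh ≃+* K := e₂.trans ((Ideal.quotEquivOfEq hm.symm).trans e)
    exact IsAlgClosed.of_ringEquiv K (ResidueField Bh) e₃.symm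
  haveI : Module.FaithfullyFlat A Bh := Module.FaithfullyFlat.trans A B Bh
  refine ⟨Bh, inferInstance, inferInstance, inferInstance, inferInstance, inferInstance, inferInstance, inferInstance, ?_⟩
  show _ = maximalIdeal (AdicCompletion (maximalIdeal B) B)
  rw [AdicCompletion.maximalIdeal_eq_map_of_fg hfg, IsScalarTower.algebraMap_eq A B (AdicCompletion (maximalIdeal B) B),
    ← Ideal.map_map, hm]

/-- A complete faithfully flat extension with algebraically closed residue field. -/
theorem exists_complete_algClosed (A : Type u) [CommRing A] [IsNoetherianRing A] [IsLocalRing A] :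
    ∃ (B : Type u) (_ : CommRing B) (_ : Algebra A B) (_ : IsNoetherianRing B) (_ : IsLocalRing B)
      (_ : IsAdicComplete (maximalIdeal B) B) (_ : IsAlgClosed (ResidueField B)), Module.FaithfullyFlat A B := by
  obtain ⟨B, i1, i2, i3, i4, i5, i6, i7, -⟩ := exists_complete_algClosed' A
  exact ⟨B, i1, i2, i3, i4, i5, i6, i7⟩

end Groth.Agent.SubmEtSpread
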