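import Groth.Agent.SubmEtSpread.Effective
import Groth.Agent.S2906
import Mathlib.AlgebraicGeometry.Morphisms.FlatDescent

/-! Effectivity descends along faithfully flat quasi-compact changes of the base. -/

set_option autoImplicit false
set_option linter.style.haveILetI false
set_option backward.isDefEq.respectTransparency false
set_option backward.isDefEq.respectTransparency.types false

universe u
open CategoryTheory CategoryTheory.Limits AlgebraicGeometry

noncomputable section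

namespace Groth.Agent.SubmEtSpread

open Groth.Agent.SchDesc
open _root_.Desc (SchDD SchDDFam toDD toDDFam pullDDFam)

variable {X S : Scheme.{u}} {p : X ⟶ S} {D : SchDD p}

/-- Étale quotients are functorial, uniquely so, for universally submersive morphisms. -/
theorem IsQuot.existsUnique_map (hp : SGA1.UnivSubmersive p) {P P' U U' : Scheme.{u}} {f : P ⟶ S} {f' : P' ⟶ S}
    {str : U ⟶ P} {π : pullback (dHom D) f ⟶ U} (hQ : IsQuot D f str π) [Etale str]
    {str' : U' ⟶ P'} {π' : pullback (dHom D) f' ⟶ U'} (hQ' : IsQuot D f' str' π') {h : P' ⟶ P} (e : h ≫ f = f') :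
    ∃! m : U' ⟶ U, m ≫ str = str' ≫ h ∧ π' ≫ m = bcMap (dHom D) e ≫ π := by
  let gP := pullback.snd p f'
  have hgP : SGA1.UnivSubmersive gP := MorphismProperty.pullback_snd (P := MorphismProperty.universally _) _ _ hp
  let V := pullback str' gP
  let i : V ⟶ pullback (dHom D) f' := hQ'.isPullback.lift (pullback.fst _ _) (pullback.snd _ _ ≫ pullback.fst p f')
    (by rw [pullback.condition_assoc, Category.assoc, pullback.condition])
  have hi1 : i ≫ π' = pullback.fst _ _ := hQ'.isPullback.lift_fst _ _ _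
  have hi2 : i ≫ pullback.fst _ _ ≫ D.obj.hom = pullback.snd _ _ ≫ pullback.fst p f' := hQ'.isPullback.lift_snd _ _ _
  let j : pullback (dHom D) f' ⟶ V := pullback.lift π'
    (pullback.lift (pullback.fst _ _ ≫ D.obj.hom) (pullback.snd _ _) (by rw [Category.assoc]; exact pullback.condition))
    (by rw [hQ'.fac, pullback.lift_snd])
  have hij : i ≫ j = 𝟙 V := by
    refine pullback.hom_ext ?_ (pullback.hom_ext ?_ ?_)
    · simp [j, hi1]
    · simp [j, hi2]
    · simp only [j, Category.assoc, pullback.lift_snd, Category.id_comp]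
      rw [← hQ'.fac, ← Category.assoc, hi1, pullback.condition]
  have hji : j ≫ i = 𝟙 _ := by
    apply hQ'.isPullback.hom_ext
    · simp [j, hi1]
    · simp [j, hi2]
  haveI : IsIso j := ⟨i, hji, hij⟩
  let U₁ := pullback str h
  haveI : Etale (pullback.snd str h) := inferInstance
  let v : V ⟶ U₁ := i ≫ pullback.lift (bcMap (dHom D) e ≫ π) (pullback.snd _ _)
    (by rw [Category.assoc, hQ.fac, pullback.lift_snd])
  have hv : v ≫ pullback.snd str h = pullback.snd str' gP ≫ gP := by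
    simp only [v, Category.assoc, pullback.lift_snd]
    rw [← hQ'.fac, ← Category.assoc, hi1, pullback.condition]
  obtain ⟨m₀, ⟨hm1, hm2⟩, hu⟩ := SubmEtLib.exists_unique_desc gP hgP str' (pullback.snd str h) v hv
    (fun {T} a b hab => by
      have h1 : (a ≫ i) ≫ π' = (b ≫ i) ≫ π' := by rw [Category.assoc, Category.assoc, hi1, hab]
      have h2 : (a ≫ i) ≫ pullback.snd _ _ = (b ≫ i) ≫ pullback.snd _ _ := by
        simp only [← hQ'.fac, ← Category.assoc, h1]
      refine pullback.hom_ext ?_ ?_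
      · simp only [v, Category.assoc, pullback.lift_fst]
        rw [← Category.assoc, ← Category.assoc, ← Category.assoc, ← Category.assoc]
        have hd : ((a ≫ i) ≫ pullback.fst _ _) ≫ D.obj.hom ≫ p = ((b ≫ i) ≫ pullback.fst _ _ ≫ D.obj.hom) ≫ p := by
          have := congrArg (· ≫ f') h2
          simp only [Category.assoc, ← pullback.condition (f := dHom D) (g := f')] at this
          simpa [dHom] using this
        have h3 : (move D ((a ≫ i) ≫ pullback.fst _ _) ((b ≫ i) ≫ pullback.fst _ _ ≫ D.obj.hom) hd) =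
            (b ≫ i) ≫ pullback.fst _ _ := by
          let t : T ⟶ pullback (dHom D) f' := pullback.lift
            (move D ((a ≫ i) ≫ pullback.fst _ _) ((b ≫ i) ≫ pullback.fst _ _ ≫ D.obj.hom) hd)
            ((a ≫ i) ≫ pullback.snd _ _) (by
              rw [← Category.assoc, move_hom, h2]
              simp only [Category.assoc]
              rw [← pullback.condition])
          have ht : t = b ≫ i := by
            apply hQ'.isPullback.hom_ext
            · rw [← h1]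
              exact (hQ'.inv' (a ≫ i) t _ hd (pullback.lift_fst _ _ _).symm (pullback.lift_snd _ _ _).symm).symm
            · rw [← Category.assoc t, pullback.lift_fst, move_hom]
          exact (pullback.lift_fst _ _ _).symm.trans (congrArg (· ≫ pullback.fst _ _) ht)
        refine hQ.inv' ((a ≫ i) ≫ bcMap (dHom D) e) ((b ≫ i) ≫ bcMap (dHom D) e)
          ((b ≫ i) ≫ pullback.fst _ _ ≫ D.obj.hom) (by simpa using hd) ?_ ?_
        · refine (SubmEtLib.move_congr' (by simp) rfl _ hd).trans (h3.trans (by simp))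
        · simp only [Category.assoc, pullback.lift_snd] at h2 ⊢
          exact (reassoc_of% h2) h
      · simpa only [Category.assoc, v, pullback.lift_snd] using h2)
  refine ⟨m₀ ≫ pullback.fst str h, ⟨?_, ?_⟩, ?_⟩
  · rw [Category.assoc, pullback.condition, reassoc_of% hm1]
  · rw [show π' = j ≫ pullback.fst str' gP from (pullback.lift_fst _ _ _).symm, Category.assoc, ← reassoc_of% hm2]
    simp only [v, Category.assoc, pullback.lift_fst, reassoc_of% hji]
  · rintro m ⟨h1, h2⟩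
    have := hu (pullback.lift m str' h1) ⟨pullback.lift_snd _ _ _, ?_⟩
    · rw [← this, pullback.lift_fst]
    · rw [← cancel_epi j]
      simp only [v, reassoc_of% hji]
      refine pullback.hom_ext ?_ ?_
      · simp [j, h2]
      · simp [j, hQ'.fac]

/-- A quotient over the whole base makes the datum effective. -/
theorem iso_of_isQuot_id {U : Scheme.{u}} {str : U ⟶ S} {π : pullback (dHom D) (𝟙 S) ⟶ U}
    (hQ : IsQuot D (𝟙 S) str π) : Nonempty ((toDD p).obj (Over.mk str) ≅ D) := by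
  let w : D.obj.left ⟶ pullback (dHom D) (𝟙 S) := pullback.lift (𝟙 _) (dHom D) (by simp)
  haveI : IsIso w := ⟨pullback.fst _ _, pullback.lift_fst _ _ _, by
    refine pullback.hom_ext ?_ ?_
    · simp [w]
    · simpa [w] using pullback.condition (f := dHom D) (g := 𝟙 S)⟩
  let Q : Quot D ⊤ :=
    { U := U
      str := str
      π := (⊤ : D.obj.left.Opens).ι ≫ w ≫ π
      isPullback := by
        refine hQ.isPullback.flip.of_iso ((asIso w).symm ≪≫ (Scheme.topIso D.obj.left).symm) (Iso.refl _) (Iso.refl _)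
          (Iso.refl _) ?_ ?_ (by simp) (by simp)
        · simp [w, ← Scheme.topIso_hom, Iso.eq_inv_comp]; exact Category.id_comp _
        · simp [w, ← Scheme.topIso_hom, Iso.eq_inv_comp]
      stable := stable_top
      inv := fun {T} t t' x hx e => by
        rw [← Category.assoc, ← Category.assoc, ← Category.assoc, ← Category.assoc]
        refine hQ.inv' _ _ x (by simpa [w] using hx) ?_ ?_
        · refine (SubmEtLib.move_congr' (by simp [w]) rfl _ hx).trans (e.trans (by simp [w]))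
        · have := congrArg (fun k => k ≫ dHom D) e
          simp only [w, Category.assoc, pullback.lift_snd]
          rw [← Category.assoc t, ← Category.assoc t', ← this, ← Category.assoc (move D _ _ _), move_hom]
          exact hx }
  obtain ⟨V, rfl, hV⟩ := SubmEtLib.quot_effective Q
  exact hV

section Descend

variable {S₁ : Scheme.{u}} {q : S₁ ⟶ S} {U₁ : Scheme.{u}} {str₁ : U₁ ⟶ S₁} {π₁ : pullback (dHom D) q ⟶ U₁}
  (hp : SGA1.UnivSubmersive p) (hQ : IsQuot D q str₁ π₁) [Etale str₁]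

/-- The quotient over a point of the new base. -/
def qπ {T : Scheme.{u}} (x : T ⟶ S₁) {f : T ⟶ S} (e : x ≫ q = f) : pullback (dHom D) f ⟶ pullback str₁ x :=
  (hQ.baseChange e (IsPullback.of_hasPullback str₁ x)).choose

theorem qπ_spec {T : Scheme.{u}} (x : T ⟶ S₁) {f : T ⟶ S} (e : x ≫ q = f) :
    IsQuot D f (pullback.snd str₁ x) (qπ hQ x e) ∧ qπ hQ x e ≫ pullback.fst str₁ x = bcMap (dHom D) e ≫ π₁ :=
  (hQ.baseChange e (IsPullback.of_hasPullback str₁ x)).choose_spec

include hp in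
theorem existsUnique_trans {T : Scheme.{u}} (x₀ x₁ : T ⟶ S₁) {f : T ⟶ S} (e₀ : x₀ ≫ q = f) (e₁ : x₁ ≫ q = f) :
    ∃! m : pullback str₁ x₀ ⟶ U₁, m ≫ str₁ = pullback.snd str₁ x₀ ≫ x₁ ∧
      qπ hQ x₀ e₀ ≫ m = bcMap (dHom D) e₁ ≫ π₁ := by
  exact hQ.existsUnique_map hp (qπ_spec hQ x₀ e₀).1 e₁

/-- The transition map. -/
def tr {T : Scheme.{u}} (x₀ x₁ : T ⟶ S₁) {f : T ⟶ S} (e₀ : x₀ ≫ q = f) (e₁ : x₁ ≫ q = f) :
    pullback str₁ x₀ ⟶ U₁ :=
  (existsUnique_trans hp hQ x₀ x₁ e₀ e₁).choose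

theorem tr_spec {T : Scheme.{u}} (x₀ x₁ : T ⟶ S₁) {f : T ⟶ S} (e₀ : x₀ ≫ q = f) (e₁ : x₁ ≫ q = f) :
    tr hp hQ x₀ x₁ e₀ e₁ ≫ str₁ = pullback.snd str₁ x₀ ≫ x₁ ∧
      qπ hQ x₀ e₀ ≫ tr hp hQ x₀ x₁ e₀ e₁ = bcMap (dHom D) e₁ ≫ π₁ :=
  (existsUnique_trans hp hQ x₀ x₁ e₀ e₁).choose_spec.1

theorem tr_eq {T : Scheme.{u}} (x₀ x₁ : T ⟶ S₁) {f : T ⟶ S} (e₀ : x₀ ≫ q = f) (e₁ : x₁ ≫ q = f)
    (m : pullback str₁ x₀ ⟶ U₁) (h1 : m ≫ str₁ = pullback.snd str₁ x₀ ≫ x₁)
    (h2 : qπ hQ x₀ e₀ ≫ m = bcMap (dHom D) e₁ ≫ π₁) : tr hp hQ x₀ x₁ e₀ e₁ = m :=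
  ((existsUnique_trans hp hQ x₀ x₁ e₀ e₁).choose_spec.2 m ⟨h1, h2⟩).symm

/-- The translate of a point. -/
def trPt {T : Scheme.{u}} (x₀ x₁ : T ⟶ S₁) (h : x₀ ≫ q = x₁ ≫ q) (v : T ⟶ U₁) (hv : v ≫ str₁ = x₀) : T ⟶ U₁ :=
  pullback.lift v (𝟙 T) (by rw [hv, Category.id_comp]) ≫ tr hp hQ x₀ x₁ rfl h.symm

theorem trPt_str {T : Scheme.{u}} (x₀ x₁ : T ⟶ S₁) (h : x₀ ≫ q = x₁ ≫ q) (v : T ⟶ U₁) (hv : v ≫ str₁ = x₀) :
    trPt hp hQ x₀ x₁ h v hv ≫ str₁ = x₁ := by
  rw [trPt, Category.assoc, (tr_spec hp hQ _ _ _ _).1, pullback.lift_snd_assoc, Category.id_comp]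

theorem trPt_self {T : Scheme.{u}} (x : T ⟶ S₁) (v : T ⟶ U₁) (hv : v ≫ str₁ = x) : trPt hp hQ x x rfl v hv = v := by
  rw [trPt, tr_eq hp hQ x x rfl rfl (pullback.fst _ _) pullback.condition (qπ_spec hQ x rfl).2, pullback.lift_fst]

theorem trPt_natural {T T' : Scheme.{u}} (r : T' ⟶ T) (x₀ x₁ : T ⟶ S₁) (h : x₀ ≫ q = x₁ ≫ q)
    (h' : (r ≫ x₀) ≫ q = (r ≫ x₁) ≫ q) (v : T ⟶ U₁) (hv : v ≫ str₁ = x₀) (hv' : (r ≫ v) ≫ str₁ = r ≫ x₀) :
    trPt hp hQ (r ≫ x₀) (r ≫ x₁) h' (r ≫ v) hv' = r ≫ trPt hp hQ x₀ x₁ h v hv := by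
  let R : pullback str₁ (r ≫ x₀) ⟶ pullback str₁ x₀ :=
    pullback.lift (pullback.fst _ _) (pullback.snd _ _ ≫ r) (by rw [Category.assoc, pullback.condition])
  have hR : qπ hQ (r ≫ x₀) rfl ≫ R = bcMap (dHom D) (Category.assoc r x₀ q).symm ≫ qπ hQ x₀ rfl := by
    refine pullback.hom_ext ?_ ?_
    · simp only [R, Category.assoc, pullback.lift_fst, (qπ_spec hQ (r ≫ x₀) rfl).2, (qπ_spec hQ x₀ rfl).2]
      rw [← Category.assoc]
      congr 1
      apply pullback.hom_ext <;> simp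
    · simp only [R, Category.assoc, pullback.lift_snd, reassoc_of% (qπ_spec hQ (r ≫ x₀) rfl).1.fac,
        (qπ_spec hQ x₀ rfl).1.fac]
  rw [trPt, trPt, tr_eq hp hQ (r ≫ x₀) (r ≫ x₁) rfl h'.symm (R ≫ tr hp hQ x₀ x₁ rfl h.symm) ?_ ?_]
  · rw [← Category.assoc, ← Category.assoc r]
    congr 1
    apply pullback.hom_ext <;> simp [R]
    exact Category.id_comp _
  · rw [Category.assoc, (tr_spec hp hQ _ _ _ _).1]
    simp [R]
  · rw [reassoc_of% hR, (tr_spec hp hQ _ _ _ _).2, ← Category.assoc]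
    congr 1
    apply pullback.hom_ext <;> simp

theorem trPt_comp {T : Scheme.{u}} (x₀ x₁ x₂ : T ⟶ S₁) (h₀₁ : x₀ ≫ q = x₁ ≫ q) (h₁₂ : x₁ ≫ q = x₂ ≫ q)
    (v : T ⟶ U₁) (hv : v ≫ str₁ = x₀) :
    trPt hp hQ x₁ x₂ h₁₂ (trPt hp hQ x₀ x₁ h₀₁ v hv) (trPt_str hp hQ _ _ _ _ _) =
      trPt hp hQ x₀ x₂ (h₀₁.trans h₁₂) v hv := by
  let L : pullback str₁ x₀ ⟶ pullback str₁ x₁ :=
    pullback.lift (tr hp hQ x₀ x₁ rfl h₀₁.symm) (pullback.snd _ _) (tr_spec hp hQ _ _ _ _).1
  have hL : qπ hQ x₀ rfl ≫ L = bcMap (dHom D) (Category.id_comp _ |>.trans h₀₁.symm |>.trans rfl) ≫ qπ hQ x₁ rfl := by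
    refine pullback.hom_ext ?_ ?_
    · simp only [L, Category.assoc, pullback.lift_fst, (tr_spec hp hQ x₀ x₁ rfl h₀₁.symm).2, (qπ_spec hQ x₁ rfl).2]
      rw [← Category.assoc]
      congr 1
      apply pullback.hom_ext <;> simp
    · simp only [L, Category.assoc, pullback.lift_snd, (qπ_spec hQ x₀ rfl).1.fac, (qπ_spec hQ x₁ rfl).1.fac,
        Category.comp_id]
  have key : tr hp hQ x₀ x₂ rfl (h₀₁.trans h₁₂).symm = L ≫ tr hp hQ x₁ x₂ rfl h₁₂.symm := by
    refine tr_eq hp hQ _ _ _ _ _ ?_ ?_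
    · rw [Category.assoc, (tr_spec hp hQ _ _ _ _).1]
      simp [L]
    · rw [reassoc_of% hL, (tr_spec hp hQ _ _ _ _).2, ← Category.assoc]
      congr 1
      apply pullback.hom_ext <;> simp
  simp only [trPt, key]
  rw [← Category.assoc]
  congr 1
  apply pullback.hom_ext <;> simp [L, trPt]

variable {P : Scheme.{u}} {f : P ⟶ S} {q' : S₁ ⟶ P} (hqf : q' ≫ f = q)

include hqf in
theorem eq_base {T : Scheme.{u}} {x₀ x₁ : T ⟶ S₁} (h : x₀ ≫ q' = x₁ ≫ q') : x₀ ≫ q = x₁ ≫ q := by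
  rw [← hqf, reassoc_of% h]

/-- The descent datum on the quotient over the new base. -/
def descDD : SchDD q' where
  obj := Over.mk str₁
  φ T x₀ x₁ h :=
    { toFun := fun v => ⟨trPt hp hQ x₀ x₁ (eq_base hqf h) v.1 v.2, trPt_str hp hQ _ _ _ _ _⟩
      invFun := fun v => ⟨trPt hp hQ x₁ x₀ (eq_base hqf h.symm) v.1 v.2, trPt_str hp hQ _ _ _ _ _⟩
      left_inv := fun v => Subtype.ext ((trPt_comp hp hQ x₀ x₁ x₀ (eq_base hqf h) (eq_base hqf h.symm) v.1 v.2).trans (trPt_self hp hQ _ _ _))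
      right_inv := fun v => Subtype.ext ((trPt_comp hp hQ x₁ x₀ x₁ (eq_base hqf h.symm) (eq_base hqf h) v.1 v.2).trans (trPt_self hp hQ _ _ _)) }
  φ_natural T T' g x₀ x₁ h h' v v' hv' := by
    obtain ⟨v', hw⟩ := v'
    subst hv'
    exact trPt_natural hp hQ g x₀ x₁ (eq_base hqf h) (eq_base hqf h') v.1 v.2 hw
  φ_self T x v := Subtype.ext (trPt_self hp hQ x v.1 v.2)
  φ_comp T x₀ x₁ x₂ h₀₁ h₁₂ v := Subtype.ext (trPt_comp hp hQ x₀ x₁ x₂ (eq_base hqf h₀₁) (eq_base hqf h₁₂) v.1 v.2)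

include hp hQ hqf in
/-- A quotient over a faithfully flat quasi-compact base change descends. -/
theorem exists_isQuot_desc [Flat q'] [Surjective q'] [QuasiCompact q'] [IsSeparated str₁] [QuasiCompact str₁] :
    ∃ U : Over P, Etale U.hom ∧ IsSeparated U.hom ∧ QuasiCompact U.hom ∧
      ∃ π : pullback (dHom D) f ⟶ U.left, IsQuot D f U.hom π := by
  let E := descDD hp hQ hqf
  haveI : QuasiCompact E.obj.hom := ‹QuasiCompact str₁›
  haveI : IsSeparated E.obj.hom := ‹IsSeparated str₁›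
  haveI : Etale E.obj.hom := ‹Etale str₁›
  obtain ⟨U, hqc, hsep, het, ⟨e⟩⟩ := Groth.Agent.S2906.result q' E
  let el : pullback q' U.hom ⟶ U₁ := e.hom.hom.left
  let el' : U₁ ⟶ pullback q' U.hom := e.inv.hom.left
  haveI : IsIso el' := ⟨el, congrArg (fun f => f.hom.left) e.inv_hom_id, congrArg (fun f => f.hom.left) e.hom_inv_id⟩
  have hel : el' ≫ pullback.fst q' U.hom = str₁ := Over.w e.inv.hom
  let gU : U₁ ⟶ U.left := el' ≫ pullback.snd q' U.hom
  have hU : IsPullback gU str₁ U.hom q' :=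
    (IsPullback.of_hasPullback q' U.hom).flip.of_iso (asIso el').symm (Iso.refl _) (Iso.refl _) (Iso.refl _)
      (by simp [gU]) (by simp [← hel]) (by simp) (by simp)
  -- the map to the quotient descends
  let r : pullback (dHom D) q ⟶ pullback (dHom D) f := bcMap (dHom D) hqf
  have hr := isPullback_bcMap (dHom D) hqf
  haveI : Flat r := MorphismProperty.of_isPullback (P := @Flat) hr.flip inferInstance
  haveI : Surjective r := MorphismProperty.of_isPullback (P := @Surjective) hr.flip inferInstance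
  haveI : QuasiCompact r := MorphismProperty.of_isPullback (P := @QuasiCompact) hr.flip inferInstance
  have hdesc : ∀ {T : Scheme.{u}} (t₀ t₁ : T ⟶ pullback (dHom D) q), t₀ ≫ r = t₁ ≫ r →
      t₀ ≫ π₁ ≫ gU = t₁ ≫ π₁ ≫ gU := by
    intro T t₀ t₁ ht
    let x₀ := t₀ ≫ pullback.snd _ _
    let x₁ := t₁ ≫ pullback.snd _ _
    have hx : x₀ ≫ q' = x₁ ≫ q' := by
      have := congrArg (· ≫ pullback.snd (dHom D) f) ht
      simpa [x₀, x₁, r] using this
    let v : _root_.Desc.Lifts E.obj x₀ :=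
      ⟨t₀ ≫ π₁, show (t₀ ≫ π₁) ≫ str₁ = x₀ by rw [Category.assoc, hQ.fac]⟩
    have hφ : (E.φ x₀ x₁ hx v).1 = t₁ ≫ π₁ := by
      show trPt hp hQ x₀ x₁ (eq_base hqf hx) (t₀ ≫ π₁) (by rw [Category.assoc, hQ.fac]) = _
      let s : T ⟶ pullback (dHom D) (x₀ ≫ q) := pullback.lift (t₀ ≫ pullback.fst _ _) (𝟙 T) (by
        simp only [x₀, Category.assoc, Category.id_comp, pullback.condition])
      have h1 : s ≫ bcMap (dHom D) (rfl : x₀ ≫ q = x₀ ≫ q) = t₀ := by
        apply pullback.hom_ext <;> simp [s, x₀]; exact Category.id_comp _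
      have h2 : s ≫ bcMap (dHom D) (eq_base hqf hx).symm = t₁ := by
        apply pullback.hom_ext
        · have := congrArg (· ≫ pullback.fst (dHom D) f) ht
          simpa [s, r] using this
        · simp [s, x₁]; exact Category.id_comp _
      have h3 : pullback.lift (t₀ ≫ π₁) (𝟙 T) (by rw [Category.assoc, hQ.fac, Category.id_comp]) =
          s ≫ qπ hQ x₀ rfl := by
        refine pullback.hom_ext ?_ ?_
        · rw [pullback.lift_fst, Category.assoc, (qπ_spec hQ x₀ rfl).2, reassoc_of% h1]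
        · rw [pullback.lift_snd, Category.assoc, (qπ_spec hQ x₀ rfl).1.fac, pullback.lift_snd]
      rw [trPt, h3, Category.assoc, (tr_spec hp hQ _ _ _ _).2, reassoc_of% h2]
    have key := e.inv.comm x₀ x₁ hx v (e.inv.push v) rfl
    rw [hφ] at key
    have key' := congrArg (· ≫ pullback.snd q' U.hom) key
    simp only [Category.assoc] at key'
    refine Eq.trans ?_ key'
    refine Eq.trans ?_ (pullback.lift_snd _ _ _).symm
    simp [gU, v, el', _root_.Desc.SchDD.Hom.push]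
  let π : pullback (dHom D) f ⟶ U.left := EffectiveEpi.desc r (π₁ ≫ gU) (fun {T} t₀ t₁ ht => hdesc t₀ t₁ ht)
  have hπ₀ : r ≫ π = π₁ ≫ gU := EffectiveEpi.fac _ _ _
  haveI : Epi r := inferInstance
  have hfac : π ≫ U.hom = pullback.snd _ _ := by
    rw [← cancel_epi r, reassoc_of% hπ₀, hU.w, reassoc_of% hQ.fac, pullback.lift_snd]
  have hc : π₁ ≫ gU = bcMap (dHom D) hqf ≫ π := hπ₀.symm
  have hinv : bcHom (pullback.fst (dHom D) p) rfl f ≫ π = bcHom (act D) (act_dHom D) f ≫ π := by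
    let r' := bcMap (pairHom D) hqf
    have hr' := isPullback_bcMap (pairHom D) hqf
    haveI : Flat r' := MorphismProperty.of_isPullback (P := @Flat) hr'.flip inferInstance
    haveI : Surjective r' := MorphismProperty.of_isPullback (P := @Surjective) hr'.flip inferInstance
    haveI : QuasiCompact r' := MorphismProperty.of_isPullback (P := @QuasiCompact) hr'.flip inferInstance
    rw [← cancel_epi r', ← Category.assoc, ← Category.assoc r', ← bcHom_bcMap, ← bcHom_bcMap (act D) (act_dHom D),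
      Category.assoc, Category.assoc, ← hc, ← Category.assoc, ← Category.assoc, hQ.inv]
    simp only [gU, Category.assoc]
  obtain ⟨qY, hY, hX⟩ := squares hfac hqf hU hQ.fac hc
  haveI := isIso_sqMap hQ
  haveI : IsIso (sqMap hfac) := by
    refine MorphismProperty.of_isPullback_of_descendsAlong (P := MorphismProperty.isomorphisms Scheme.{u})
      (Q := @Surjective ⊓ @Flat ⊓ @QuasiCompact) hX.flip ⟨⟨?_, ?_⟩, ?_⟩ inferInstance
    · exact MorphismProperty.of_isPullback (P := @Surjective) hY.flip inferInstance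
    · exact MorphismProperty.of_isPullback (P := @Flat) hY.flip inferInstance
    · exact MorphismProperty.of_isPullback (P := @QuasiCompact) hY.flip inferInstance
  exact ⟨U, het, hsep, hqc, π, ⟨hfac, hinv, isPullback_of_isIso_sqMap hfac⟩⟩

end Descend

/-- A quotient over a faithfully flat quasi-compact base change gives effectivity. -/
theorem exists_quot_id (hp : SGA1.UnivSubmersive p) {S₁ U₁ : Scheme.{u}} {q : S₁ ⟶ S} {str₁ : U₁ ⟶ S₁}
    {π₁ : pullback (dHom D) q ⟶ U₁} (hQ : IsQuot D q str₁ π₁) [Etale str₁] [Flat q] [Surjective q] [QuasiCompact q]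
    [IsSeparated str₁] [QuasiCompact str₁] :
    ∃ U : Over S, Etale U.hom ∧ IsSeparated U.hom ∧ QuasiCompact U.hom ∧ Nonempty ((toDD p).obj U ≅ D) := by
  obtain ⟨U, h1, h2, h3, π, hπ⟩ := exists_isQuot_desc hp hQ (f := 𝟙 S) (q' := q) (Category.comp_id q)
  exact ⟨Over.mk U.hom, h1, h2, h3, iso_of_isQuot_id hπ⟩

theorem effective_iff_baseChange {S S' S₁ : Scheme.{u}} (g : S' ⟶ S) (hg : SGA1.UnivSubmersive g)
    (D : SchDDFam (fun _ : PUnit.{1} => g)) (q : S₁ ⟶ S) [Flat q] [Surjective q] [QuasiCompact q] :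
    (∃ U : Over S, Etale U.hom ∧ IsSeparated U.hom ∧ QuasiCompact U.hom ∧
        Nonempty ((toDDFam (fun _ : PUnit.{1} => g)).obj U ≅ D)) ↔
      (∃ U : Over S₁, Etale U.hom ∧ IsSeparated U.hom ∧ QuasiCompact U.hom ∧
        Nonempty ((toDDFam (fun _ : PUnit.{1} => pullback.snd g q)).obj U ≅
          (pullDDFam (f := fun _ : PUnit.{1} => g) (f' := fun _ : PUnit.{1} => pullback.snd g q)
        (α := id) (p := q) (p' := fun _ => pullback.fst g q) (fun _ => pullback.condition)).obj D)) := by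
  constructor
  · rintro ⟨U, h1, h2, h3, ⟨e⟩⟩
    obtain ⟨π, hπ⟩ := exists_isQuot_of_iso (⊤ : S.Opens).ι ((Over.pullback _).obj U)
      (SubmEtLib.pullCanIso U ⊤ ≪≫ Functor.mapIso _ e)
    obtain ⟨π', hπ', -⟩ := hπ.baseChange
      (show (q ≫ (Scheme.topIso S).inv) ≫ (⊤ : S.Opens).ι = q by
        rw [Category.assoc, ← Scheme.topIso_hom, Iso.inv_hom_id, Category.comp_id])
      (IsPullback.of_hasPullback _ _)
    haveI := h1; haveI := h2; haveI := h3
    haveI : Etale ((Over.pullback (⊤ : S.Opens).ι).obj U).hom := inferInstanceAs (Etale (pullback.snd _ _))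
    haveI : IsSeparated ((Over.pullback (⊤ : S.Opens).ι).obj U).hom := inferInstanceAs (IsSeparated (pullback.snd _ _))
    haveI : QuasiCompact ((Over.pullback (⊤ : S.Opens).ι).obj U).hom := inferInstanceAs (QuasiCompact (pullback.snd _ _))
    refine ⟨Over.mk (pullback.snd ((Over.pullback (⊤ : S.Opens).ι).obj U).hom (q ≫ (Scheme.topIso S).inv)),
      ?_, ?_, ?_, nonempty_iso_of_isQuot hπ'⟩ <;> (dsimp only [Over.mk_hom]; infer_instance)
  · rintro ⟨U, h1, h2, h3, ⟨e⟩⟩
    haveI := h1; haveI := h2; haveI := h3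
    obtain ⟨π, hπ⟩ := exists_isQuot_of_iso q U e
    obtain ⟨V, v1, v2, v3, ⟨i⟩⟩ := exists_quot_id hg hπ
    exact ⟨V, v1, v2, v3, ⟨(_root_.Desc.SchDDFam.ofSchDD g).mapIso i⟩⟩

end Groth.Agent.SubmEtSpread
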