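import Groth.Prelude.Def_DescFam
import Groth.Agent.SchDesc.Basic
import Groth.Agent.SubmEtLib.OpenLocal

/-! Quotients of descent data over a base change `f : P ⟶ S`, and effectivity of the pulled back datum. -/

set_option autoImplicit false
set_option linter.style.haveILetI false
set_option backward.isDefEq.respectTransparency false
set_option backward.isDefEq.respectTransparency.types false

universe u
open CategoryTheory CategoryTheory.Limits AlgebraicGeometry

noncomputable section

namespace Groth.Agent.SubmEtSpread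

open Groth.Agent.SchDesc
open _root_.Desc (SchDD SchDDFam toDD toDDFam pullDDFam)

variable {X S : Scheme.{u}} {p : X ⟶ S}

section
variable {P P' B B' : Scheme.{u}} {f : P ⟶ S} {f' : P' ⟶ S}

/-- Base change map of a morphism over `S`. -/
abbrev bcHom (β : B' ⟶ B) {b : B ⟶ S} {b' : B' ⟶ S} (hβ : β ≫ b = b') (f : P ⟶ S) :
    pullback b' f ⟶ pullback b f :=
  pullback.lift (pullback.fst b' f ≫ β) (pullback.snd b' f) (by rw [Category.assoc, hβ, pullback.condition])

/-- Base change map along a morphism of bases. -/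
abbrev bcMap (b : B ⟶ S) {h : P' ⟶ P} (e : h ≫ f = f') : pullback b f' ⟶ pullback b f :=
  pullback.lift (pullback.fst b f') (pullback.snd b f' ≫ h) (by rw [Category.assoc, e, pullback.condition])

theorem isPullback_bcMap (b : B ⟶ S) {h : P' ⟶ P} (e : h ≫ f = f') :
    IsPullback (bcMap b e) (pullback.snd b f') (pullback.snd b f) h := by
  refine IsPullback.of_right ?_ (pullback.lift_snd _ _ _) (IsPullback.of_hasPullback b f)
  rw [pullback.lift_fst, e]
  exact IsPullback.of_hasPullback b f'

theorem bcHom_bcMap (β : B' ⟶ B) {b : B ⟶ S} {b' : B' ⟶ S} (hβ : β ≫ b = b') {h : P' ⟶ P} (e : h ≫ f = f') :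
    bcHom β hβ f' ≫ bcMap b e = bcMap b' e ≫ bcHom β hβ f := by
  apply pullback.hom_ext <;> simp

end

variable (D : SchDD p)

/-- The structure map to the base. -/
abbrev dHom : D.obj.left ⟶ S := D.obj.hom ≫ p

/-- The scheme of pairs. -/
abbrev pairHom : pullback (dHom D) p ⟶ S := pullback.fst (dHom D) p ≫ dHom D

theorem act_dHom : act D ≫ dHom D = pairHom D := by
  rw [← Category.assoc, act_hom, ← pullback.condition]

/-- `str` and `π` form a quotient of the descent datum over `f`. -/
structure IsQuot {P U : Scheme.{u}} (f : P ⟶ S) (str : U ⟶ P) (π : pullback (dHom D) f ⟶ U) : Prop where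
  fac : π ≫ str = pullback.snd (dHom D) f
  inv : bcHom (pullback.fst (dHom D) p) rfl f ≫ π = bcHom (act D) (act_dHom D) f ≫ π
  isPullback : IsPullback π (pullback.fst (dHom D) f ≫ D.obj.hom) (str ≫ f) p

variable {D}

theorem IsQuot.inv' {P U : Scheme.{u}} {f : P ⟶ S} {str : U ⟶ P} {π : pullback (dHom D) f ⟶ U}
    (hQ : IsQuot D f str π) {T : Scheme.{u}} (t t' : T ⟶ pullback (dHom D) f) (x : T ⟶ X)
    (hx : (t ≫ pullback.fst _ _) ≫ D.obj.hom ≫ p = x ≫ p)
    (he : move D (t ≫ pullback.fst _ _) x hx = t' ≫ pullback.fst _ _)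
    (hs : t ≫ pullback.snd _ _ = t' ≫ pullback.snd _ _) : t ≫ π = t' ≫ π := by
  let m : T ⟶ pullback (pairHom D) f :=
    pullback.lift (pullback.lift (t ≫ pullback.fst _ _) x hx) (t ≫ pullback.snd _ _)
      (by simp only [pairHom, ← Category.assoc, pullback.lift_fst]; simp only [Category.assoc, pullback.condition])
  have h1 : m ≫ bcHom (pullback.fst (dHom D) p) rfl f = t := by
    apply pullback.hom_ext <;> simp [m]
  have h2 : m ≫ bcHom (act D) (act_dHom D) f = t' := by
    refine pullback.hom_ext ?_ ?_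
    · rw [Category.assoc, pullback.lift_fst, ← he, move]
      simp [m]
    · rw [Category.assoc, pullback.lift_snd, ← hs]
      simp [m]
  rw [← h1, ← h2, Category.assoc, Category.assoc, hQ.inv]

/-- Quotients are stable under base change. -/
theorem IsQuot.baseChange {P P' U U' : Scheme.{u}} {f : P ⟶ S} {str : U ⟶ P} {π : pullback (dHom D) f ⟶ U}
    (hQ : IsQuot D f str π) {h : P' ⟶ P} {f' : P' ⟶ S} (e : h ≫ f = f') {str' : U' ⟶ P'} {gU : U' ⟶ U}
    (hU : IsPullback gU str' str h) :
    ∃ π' : pullback (dHom D) f' ⟶ U', IsQuot D f' str' π' ∧ π' ≫ gU = bcMap (dHom D) e ≫ π := by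
  let π' : pullback (dHom D) f' ⟶ U' := hU.lift (bcMap (dHom D) e ≫ π) (pullback.snd _ _)
    (by rw [Category.assoc, hQ.fac, pullback.lift_snd])
  have h1 : π' ≫ gU = bcMap (dHom D) e ≫ π := hU.lift_fst _ _ _
  have h2 : π' ≫ str' = pullback.snd _ _ := hU.lift_snd _ _ _
  refine ⟨π', ⟨h2, ?_, ?_⟩, h1⟩
  · apply hU.hom_ext
    · rw [Category.assoc, Category.assoc, h1]
      refine ((Category.assoc _ _ _).symm.trans (congrArg (· ≫ π) (bcHom_bcMap _ rfl e))).trans ?_
      refine Eq.trans ?_ ((Category.assoc _ _ _).symm.trans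
        (congrArg (· ≫ π) (bcHom_bcMap (act D) (act_dHom D) e))).symm
      rw [Category.assoc, Category.assoc, hQ.inv]
    · simp [h2]
  · have hsq : IsPullback π' (bcMap (dHom D) e) gU π := by
      refine (IsPullback.of_bot ?_ h1.symm hU).flip
      rw [h2, hQ.fac]
      exact isPullback_bcMap (dHom D) e
    have := hsq.paste_vert hQ.isPullback
    rwa [← Category.assoc (bcMap (dHom D) e), pullback.lift_fst, reassoc_of% hU.w, e] at this

variable {Dfam : SchDDFam (fun _ : PUnit.{1} => p)}

/-- A morphism of descent data with invertible components is an isomorphism. -/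
theorem isIso_of_components {ι : Type} {X : ι → Scheme.{u}} {S : Scheme.{u}} {q : ∀ i, X i ⟶ S}
    {A B : SchDDFam q} (a : A ⟶ B) [∀ i, IsIso (a.hom i)] : IsIso a :=
  ⟨⟨fun i => inv (a.hom i), fun T i j x₀ x₁ h v w hw => by
      have hv : v.1 = w.1 ≫ (a.hom i).left := by
        rw [hw, Category.assoc, ← Over.comp_left, IsIso.inv_hom_id, Over.id_left, Category.comp_id]
      have := a.comm x₀ x₁ h w v hv
      rw [this, Category.assoc, ← Over.comp_left, IsIso.hom_inv_id, Over.id_left, Category.comp_id]⟩,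
    SchDDFam.hom_ext (funext fun i => IsIso.hom_inv_id (a.hom i)),
    SchDDFam.hom_ext (funext fun i => IsIso.inv_hom_id (a.hom i))⟩

section Pure

variable {P U : Scheme.{u}} (D) (f : P ⟶ S)

/-- From the pullback to `X ×_S P` to the base change over `P`. -/
abbrev toBC : pullback D.obj.hom (pullback.fst p f) ⟶ pullback (dHom D) f :=
  pullback.lift (pullback.fst _ _) (pullback.snd _ _ ≫ pullback.snd p f)
    (by rw [pullback.condition_assoc, pullback.condition, Category.assoc])

/-- The inverse of `toBC`. -/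
abbrev ofBC : pullback (dHom D) f ⟶ pullback D.obj.hom (pullback.fst p f) :=
  pullback.lift (pullback.fst _ _)
    (pullback.lift (pullback.fst _ _ ≫ D.obj.hom) (pullback.snd _ _) (by rw [Category.assoc]; exact pullback.condition))
    (pullback.lift_fst _ _ _).symm

theorem toBC_ofBC : toBC D f ≫ ofBC D f = 𝟙 _ := by
  refine pullback.hom_ext ?_ (pullback.hom_ext ?_ ?_) <;> simp [pullback.condition]

theorem ofBC_toBC : ofBC D f ≫ toBC D f = 𝟙 _ := by
  apply pullback.hom_ext <;> simp

instance : IsIso (ofBC D f) := ⟨toBC D f, ofBC_toBC D f, toBC_ofBC D f⟩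

theorem ofBC_snd_fst : ofBC D f ≫ pullback.snd _ _ ≫ pullback.fst p f = pullback.fst _ _ ≫ D.obj.hom := by simp

theorem ofBC_snd_snd : ofBC D f ≫ pullback.snd _ _ ≫ pullback.snd p f = pullback.snd _ _ := by simp

theorem bcHom_ofBC_move (h : (bcHom (pullback.fst (dHom D) p) rfl f ≫ ofBC D f ≫ pullback.fst _ _) ≫ D.obj.hom ≫ p =
      ((bcHom (act D) (act_dHom D) f ≫ ofBC D f ≫ pullback.snd _ _) ≫ pullback.fst p f) ≫ p) :
    move D (bcHom (pullback.fst (dHom D) p) rfl f ≫ ofBC D f ≫ pullback.fst _ _)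
      ((bcHom (act D) (act_dHom D) f ≫ ofBC D f ≫ pullback.snd _ _) ≫ pullback.fst p f) h =
      bcHom (act D) (act_dHom D) f ≫ ofBC D f ≫ pullback.fst _ _ := by
  have e : pullback.lift (bcHom (pullback.fst (dHom D) p) rfl f ≫ ofBC D f ≫ pullback.fst _ _)
      ((bcHom (act D) (act_dHom D) f ≫ ofBC D f ≫ pullback.snd _ _) ≫ pullback.fst p f) h =
        pullback.fst (pairHom D) f := by
    apply pullback.hom_ext
    · simp
    · simp [act_hom]
  rw [move, e]
  simp

theorem lift_move_cond {T : Scheme.{u}} (v : T ⟶ pullback D.obj.hom (pullback.fst p f)) {x₀ x₁ : T ⟶ pullback p f}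
    (h0 : v ≫ pullback.snd _ _ = x₀) (h : x₀ ≫ pullback.snd p f = x₁ ≫ pullback.snd p f) :
    (v ≫ pullback.fst _ _) ≫ D.obj.hom ≫ p = (x₁ ≫ pullback.fst p f) ≫ p := by
  simp only [Category.assoc, pullback.condition_assoc, reassoc_of% h0]
  simp only [pullback.condition, reassoc_of% h]

variable {D f} {str : U ⟶ P} {π : pullback (dHom D) f ⟶ U} (hQ : IsQuot D f str π)

include hQ in
theorem toBC_fac : (toBC D f ≫ π) ≫ str = pullback.snd _ _ ≫ pullback.snd p f := by
  rw [Category.assoc, hQ.fac, pullback.lift_snd]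

/-- The comparison with the canonical datum. -/
abbrev cmpMap : pullback D.obj.hom (pullback.fst p f) ⟶ pullback (pullback.snd p f) str :=
  pullback.lift (pullback.snd _ _) (toBC D f ≫ π) (toBC_fac hQ).symm

include hQ in
theorem isIso_cmpMap : IsIso (cmpMap hQ) := by
  let t : pullback (pullback.snd p f) str ⟶ pullback (dHom D) f :=
    hQ.isPullback.lift (pullback.snd _ _) (pullback.fst _ _ ≫ pullback.fst p f)
      (by rw [Category.assoc, pullback.condition, ← pullback.condition_assoc])
  have ht1 : t ≫ π = pullback.snd _ _ := hQ.isPullback.lift_fst _ _ _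
  have ht2 : t ≫ pullback.fst (dHom D) f ≫ D.obj.hom = pullback.fst _ _ ≫ pullback.fst p f :=
    hQ.isPullback.lift_snd _ _ _
  have ht3 : t ≫ pullback.snd (dHom D) f = pullback.fst _ _ ≫ pullback.snd p f := by
    rw [← hQ.fac, ← Category.assoc, ht1, ← pullback.condition]
  let χ : pullback (pullback.snd p f) str ⟶ pullback D.obj.hom (pullback.fst p f) :=
    pullback.lift (t ≫ pullback.fst _ _) (pullback.fst _ _) (by rw [Category.assoc, ht2])
  have hrt : cmpMap hQ ≫ t = toBC D f := by
    apply hQ.isPullback.hom_ext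
    · simp [Category.assoc, ht1]
    · simp [Category.assoc, ht2, pullback.condition]
  have hχr : χ ≫ toBC D f = t := by
    apply pullback.hom_ext <;> simp [χ, ht3]
  exact ⟨χ, by
    refine pullback.hom_ext ?_ ?_
    · simp [χ, reassoc_of% hrt]
    · simp [χ], by
    refine pullback.hom_ext ?_ ?_
    · simp [χ]
    · simp [reassoc_of% hχr, ht1]⟩

include hQ in
theorem cmpMap_compat {T : Scheme.{u}} (v v' : T ⟶ pullback D.obj.hom (pullback.fst p f)) {x₀ x₁ : T ⟶ pullback p f}
    (h0 : v ≫ pullback.snd _ _ = x₀) (h1 : v' ≫ pullback.snd _ _ = x₁) (h : x₀ ≫ pullback.snd p f = x₁ ≫ pullback.snd p f)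
    (hm : move D (v ≫ pullback.fst _ _) (x₁ ≫ pullback.fst p f) (lift_move_cond D f v h0 h) = v' ≫ pullback.fst _ _) :
    (v ≫ cmpMap hQ) ≫ pullback.snd _ _ = (v' ≫ cmpMap hQ) ≫ pullback.snd _ _ := by
  simp only [Category.assoc, pullback.lift_snd]
  rw [← Category.assoc, ← Category.assoc]
  refine hQ.inv' _ _ (x₁ ≫ pullback.fst p f) (by simpa using lift_move_cond D f v h0 h) ?_ ?_
  · refine (SubmEtLib.move_congr' ?_ rfl _ (lift_move_cond D f v h0 h)).trans (hm.trans ?_) <;> simp
  · simp only [Category.assoc, pullback.lift_snd, reassoc_of% h0, reassoc_of% h1, h]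

end Pure

section Pull

variable {P : Scheme.{u}} (f : P ⟶ S)

theorem pull_φ_snd {T : Scheme.{u}} {i j : PUnit.{1}} (x₀ x₁ : T ⟶ pullback p f)
    (h : x₀ ≫ pullback.snd p f = x₁ ≫ pullback.snd p f)
    (v : _root_.Desc.Lifts (Over.mk (pullback.snd ((_root_.Desc.SchDDFam.toSchDD p).obj Dfam).obj.hom (pullback.fst p f))) x₀) :
    (((pullDDFam (f := fun _ : PUnit.{1} => p) (f' := fun _ : PUnit.{1} => pullback.snd p f)
      (α := id) (p := f) (p' := fun _ => pullback.fst p f) (fun _ => pullback.condition)).obj Dfam).φ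
        (i := i) (j := j) x₀ x₁ h v).1 ≫ pullback.snd ((_root_.Desc.SchDDFam.toSchDD p).obj Dfam).obj.hom (pullback.fst p f) = x₁ :=
  pullback.lift_snd _ _ _

theorem pull_φ_fst {T : Scheme.{u}} {i j : PUnit.{1}} (x₀ x₁ : T ⟶ pullback p f)
    (h : x₀ ≫ pullback.snd p f = x₁ ≫ pullback.snd p f)
    (v : _root_.Desc.Lifts (Over.mk (pullback.snd ((_root_.Desc.SchDDFam.toSchDD p).obj Dfam).obj.hom (pullback.fst p f))) x₀) :
    (((pullDDFam (f := fun _ : PUnit.{1} => p) (f' := fun _ : PUnit.{1} => pullback.snd p f)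
      (α := id) (p := f) (p' := fun _ => pullback.fst p f) (fun _ => pullback.condition)).obj Dfam).φ
        (i := i) (j := j) x₀ x₁ h v).1 ≫ pullback.fst ((_root_.Desc.SchDDFam.toSchDD p).obj Dfam).obj.hom (pullback.fst p f) =
      move ((_root_.Desc.SchDDFam.toSchDD p).obj Dfam) (v.1 ≫ pullback.fst _ _) (x₁ ≫ pullback.fst p f)
        (lift_move_cond _ f v.1 v.2 h) :=
  (pullback.lift_fst _ _ _).trans
    (φ_eq_move ((_root_.Desc.SchDDFam.toSchDD p).obj Dfam) (x₀ ≫ pullback.fst p f) (x₁ ≫ pullback.fst p f)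
      (_root_.Desc.pull_compat (f := fun _ : PUnit.{1} => p) (f'  := fun _ : PUnit.{1} => pullback.snd p f)
        (α := id) (p := f) (p' := fun _ => pullback.fst p f) (fun _ => pullback.condition) (j₀ := PUnit.unit) (j₁ := PUnit.unit) x₀ x₁ h)
      ⟨v.1 ≫ pullback.fst _ _, (Category.assoc _ _ _).trans ((congrArg (v.1 ≫ ·) pullback.condition).trans ((Category.assoc _ _ _).symm.trans (congrArg (· ≫ _) v.2)))⟩)

end Pull

/-- A quotient over `f` makes the pulled back datum effective. -/
theorem nonempty_iso_of_isQuot {P U : Scheme.{u}} {f : P ⟶ S} {str : U ⟶ P}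
    {π : pullback (dHom ((_root_.Desc.SchDDFam.toSchDD p).obj Dfam)) f ⟶ U}
    (hQ : IsQuot ((_root_.Desc.SchDDFam.toSchDD p).obj Dfam) f str π) :
    Nonempty ((toDDFam (fun _ : PUnit.{1} => pullback.snd p f)).obj (Over.mk str) ≅
      (pullDDFam (f := fun _ : PUnit.{1} => p) (f' := fun _ : PUnit.{1} => pullback.snd p f)
        (α := id) (p := f) (p' := fun _ => pullback.fst p f) (fun _ => pullback.condition)).obj Dfam) := by
  haveI := isIso_cmpMap hQ
  let a : (pullDDFam (f := fun _ : PUnit.{1} => p) (f' := fun _ : PUnit.{1} => pullback.snd p f)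
        (α := id) (p := f) (p' := fun _ => pullback.fst p f) (fun _ => pullback.condition)).obj Dfam ⟶
      (toDDFam (fun _ : PUnit.{1} => pullback.snd p f)).obj (Over.mk str) :=
    ⟨fun _ => Over.homMk (cmpMap hQ) (pullback.lift_fst _ _ _), fun T i j x₀ x₁ h v w hw => by
      refine pullback.hom_ext ?_ ?_
      · exact (pullback.lift_fst _ _ _).trans (((Category.assoc _ _ _).trans
          (congrArg (_ ≫ ·) (pullback.lift_fst _ _ _))).trans (pull_φ_snd f x₀ x₁ h v)).symm
      · refine (pullback.lift_snd _ _ _).trans ((congrArg (· ≫ pullback.snd _ _) hw).trans ?_)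
        exact cmpMap_compat hQ v.1 _ v.2 (pull_φ_snd f x₀ x₁ h v) h (pull_φ_fst f x₀ x₁ h v).symm⟩
  haveI : ∀ i, IsIso (a.hom i) := fun i => by
    haveI : IsIso ((Over.forget _).map (a.hom i)) := show IsIso (cmpMap hQ) from inferInstance
    exact isIso_of_reflects_iso (a.hom i) (Over.forget _)
  haveI := isIso_of_components a
  exact ⟨(asIso a).symm⟩

/-- An effective pulled back datum has a quotient over `f`. -/
theorem exists_isQuot_of_iso {P : Scheme.{u}} (f : P ⟶ S) (U : Over P)
    (e : (toDDFam (fun _ : PUnit.{1} => pullback.snd p f)).obj U ≅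
      (pullDDFam (f := fun _ : PUnit.{1} => p) (f' := fun _ : PUnit.{1} => pullback.snd p f)
        (α := id) (p := f) (p' := fun _ => pullback.fst p f) (fun _ => pullback.condition)).obj Dfam) :
    ∃ π : pullback (dHom ((_root_.Desc.SchDDFam.toSchDD p).obj Dfam)) f ⟶ U.left,
      IsQuot ((_root_.Desc.SchDDFam.toSchDD p).obj Dfam) f U.hom π := by
  generalize hD : (_root_.Desc.SchDDFam.toSchDD p).obj Dfam = D
  subst hD
  let D := (_root_.Desc.SchDDFam.toSchDD p).obj Dfam
  let el : pullback (pullback.snd p f) U.hom ⟶ pullback D.obj.hom (pullback.fst p f) := (e.hom.hom PUnit.unit).left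
  let el' : pullback D.obj.hom (pullback.fst p f) ⟶ pullback (pullback.snd p f) U.hom := (e.inv.hom PUnit.unit).left
  haveI : IsIso el' := ⟨el, congrArg (fun k => (k.hom PUnit.unit).left) e.inv_hom_id,
    congrArg (fun k => (k.hom PUnit.unit).left) e.hom_inv_id⟩
  have hel : el' ≫ pullback.fst (pullback.snd p f) U.hom = pullback.snd _ _ := Over.w (e.inv.hom PUnit.unit)
  let π : pullback (dHom D) f ⟶ U.left := ofBC D f ≫ el' ≫ pullback.snd _ _
  refine ⟨π, ?_, ?_, ?_⟩
  · show (ofBC D f ≫ el' ≫ pullback.snd _ _) ≫ U.hom = _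
    simp only [Category.assoc, ← pullback.condition (f := pullback.snd p f) (g := U.hom), reassoc_of% hel]
    exact ofBC_snd_snd D f
  · let y₀ : pullback (pairHom D) f ⟶ pullback p f :=
      bcHom (pullback.fst (dHom D) p) rfl f ≫ ofBC D f ≫ pullback.snd _ _
    let y₁ : pullback (pairHom D) f ⟶ pullback p f :=
      bcHom (act D) (act_dHom D) f ≫ ofBC D f ≫ pullback.snd _ _
    have hy : y₀ ≫ pullback.snd p f = y₁ ≫ pullback.snd p f := by
      simp only [y₀, y₁, Category.assoc, ofBC_snd_snd, pullback.lift_snd]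
    let v : _root_.Desc.Lifts (((pullDDFam (f := fun _ : PUnit.{1} => p) (f' := fun _ : PUnit.{1} => pullback.snd p f)
        (α := id) (p := f) (p' := fun _ => pullback.fst p f) (fun _ => pullback.condition)).obj Dfam).obj PUnit.unit) y₀ :=
      ⟨bcHom (pullback.fst (dHom D) p) rfl f ≫ ofBC D f, Category.assoc _ _ _⟩
    have key := e.inv.comm (i := PUnit.unit) (j := PUnit.unit) y₀ y₁ hy v (_root_.Desc.SchDDFam.Hom.push e.inv v) rfl
    have hφ : (((pullDDFam (f := fun _ : PUnit.{1} => p) (f' := fun _ : PUnit.{1} => pullback.snd p f)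
        (α := id) (p := f) (p' := fun _ => pullback.fst p f) (fun _ => pullback.condition)).obj Dfam).φ
          (i := PUnit.unit) (j := PUnit.unit) y₀ y₁ hy v).1 = bcHom (act D) (act_dHom D) f ≫ ofBC D f := by
      refine pullback.hom_ext ?_ ?_
      · refine (pull_φ_fst f y₀ y₁ hy v).trans ?_
        refine (SubmEtLib.move_congr' (Category.assoc _ _ _) rfl _ ?_).trans
            ((bcHom_ofBC_move D f ?_).trans (Category.assoc _ _ _).symm)
        all_goals exact (congrArg (· ≫ D.obj.hom ≫ p) (Category.assoc _ _ _).symm).trans (lift_move_cond D f _ (Category.assoc _ _ _) hy)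
      · exact (pullback.lift_snd _ _ _).trans (Category.assoc _ _ _).symm
    have key' := congrArg (fun k => k ≫ pullback.snd (pullback.snd p f) U.hom)
      (key.trans (congrArg (· ≫ el') hφ))
    have key'' : (bcHom (pullback.fst (dHom D) p) rfl f ≫ ofBC D f) ≫ el' ≫ pullback.snd _ _ =
        (bcHom (act D) (act_dHom D) f ≫ ofBC D f) ≫ el' ≫ pullback.snd _ _ :=
      (Category.assoc _ _ _).symm.trans ((pullback.lift_snd _ _ _).symm.trans (key'.trans (Category.assoc _ _ _)))
    simpa only [π, Category.assoc] using key''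
  · have h1 : IsPullback (pullback.snd (pullback.snd p f) U.hom) (pullback.fst _ _ ≫ pullback.fst p f) (U.hom ≫ f) p :=
      (IsPullback.of_hasPullback (pullback.snd p f) U.hom).flip.paste_vert (IsPullback.of_hasPullback p f).flip
    refine h1.of_iso (asIso (ofBC D f ≫ el')).symm (Iso.refl _) (Iso.refl _) (Iso.refl _) ?_ ?_ (by simp) (by simp)
    · simp only [Iso.refl_hom, Category.comp_id, Iso.symm_hom, Iso.eq_inv_comp, asIso_hom, π, Category.assoc]
    · simp only [Iso.refl_hom, Category.comp_id, Iso.symm_hom, Iso.eq_inv_comp, asIso_hom]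
      simp only [Category.assoc, reassoc_of% hel]
      exact ofBC_snd_fst D f

end Groth.Agent.SubmEtSpread
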