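import Groth.Agent.SubmEtSpread.PQuot
import Groth.Agent.SubmEtSpread.NhdLim
import Groth.Agent.S0591
import Groth.Agent.S4805
import Groth.Agent.FlatStage.Smooth

/-! An étale quotient over the local scheme at a point spreads out to a neighbourhood. -/

set_option autoImplicit false
set_option linter.style.haveILetI false
set_option backward.isDefEq.respectTransparency false
set_option backward.defeqAttrib.useBackward true

universe u
open CategoryTheory CategoryTheory.Limits AlgebraicGeometry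

noncomputable section

namespace Groth.Agent.SubmEtSpread

open Groth.Agent.SchDesc
open _root_.Desc (SchDD)

variable {X S : Scheme.{u}} {p : X ⟶ S} {D : SchDD p}

section Squares

variable {P P' U U' : Scheme.{u}} {f : P ⟶ S} {f' : P' ⟶ S} {str : U ⟶ P} {π : pullback (dHom D) f ⟶ U}

theorem cmp_w (hfac : π ≫ str = pullback.snd (dHom D) f) :
    π ≫ str ≫ f = (pullback.fst (dHom D) f ≫ D.obj.hom) ≫ p := by
  rw [reassoc_of% hfac, Category.assoc, ← pullback.condition]

/-- The map whose invertibility makes the quotient square cartesian. -/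
abbrev sqMap (hfac : π ≫ str = pullback.snd (dHom D) f) : pullback (dHom D) f ⟶ pullback (str ≫ f) p :=
  pullback.lift π (pullback.fst _ _ ≫ D.obj.hom) (cmp_w hfac)

theorem sqMap_fst_str (hfac : π ≫ str = pullback.snd (dHom D) f) :
    sqMap hfac ≫ pullback.fst _ _ ≫ str = pullback.snd (dHom D) f := by
  rw [pullback.lift_fst_assoc, hfac]

theorem isPullback_of_isIso_sqMap (hfac : π ≫ str = pullback.snd (dHom D) f) [IsIso (sqMap hfac)] :
    IsPullback π (pullback.fst (dHom D) f ≫ D.obj.hom) (str ≫ f) p :=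
  IsPullback.of_iso_pullback ⟨cmp_w hfac⟩ (asIso (sqMap hfac)) (pullback.lift_fst _ _ _) (pullback.lift_snd _ _ _)

theorem isIso_sqMap (hQ : IsQuot D f str π) : IsIso (sqMap hQ.fac) := by
  rw [show sqMap hQ.fac = hQ.isPullback.isoPullback.hom from
    pullback.hom_ext (by simp) (by simp)]
  infer_instance

theorem squares (hfac : π ≫ str = pullback.snd (dHom D) f) {h : P' ⟶ P} (e : h ≫ f = f') {gU : U' ⟶ U}
    {str' : U' ⟶ P'} (hU : IsPullback gU str' str h) {π' : pullback (dHom D) f' ⟶ U'}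
    (hfac' : π' ≫ str' = pullback.snd (dHom D) f') (hc : π' ≫ gU = bcMap (dHom D) e ≫ π) :
    ∃ qY : pullback (str' ≫ f') p ⟶ pullback (str ≫ f) p,
      IsPullback qY (pullback.fst _ _ ≫ str') (pullback.fst _ _ ≫ str) h ∧
      IsPullback (bcMap (dHom D) e) (sqMap hfac') (sqMap hfac) qY := by
  have e' : gU ≫ str ≫ f = str' ≫ f' := by rw [← e, reassoc_of% hU.w]
  let qY : pullback (str' ≫ f') p ⟶ pullback (str ≫ f) p :=
    pullback.lift (pullback.fst _ _ ≫ gU) (pullback.snd _ _) (by rw [Category.assoc, e', pullback.condition])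
  have h1 : IsPullback qY (pullback.fst (str' ≫ f') p) (pullback.fst (str ≫ f) p) gU := by
    refine (IsPullback.of_bot ?_ (pullback.lift_fst _ _ _).symm (IsPullback.of_hasPullback (str ≫ f) p)).flip
    rw [pullback.lift_snd, e']
    exact IsPullback.of_hasPullback _ _
  have hY := h1.paste_vert hU
  refine ⟨qY, hY, ?_⟩
  refine IsPullback.of_bot ?_ ?_ hY
  · rw [sqMap_fst_str, sqMap_fst_str]
    exact isPullback_bcMap (dHom D) e
  · apply pullback.hom_ext <;> simp [qY, hc]

theorem bcHom_bcMap' {B B' P P' Z : Scheme.{u}} {f : P ⟶ S} {f' : P' ⟶ S} (β : B' ⟶ B) {b : B ⟶ S} {b' : B' ⟶ S}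
    (hβ : β ≫ b = b') {h : P' ⟶ P} (e : h ≫ f = f') (k : pullback b f ⟶ Z) :
    bcHom β hβ f' ≫ bcMap b e ≫ k = bcMap b' e ≫ bcHom β hβ f ≫ k := by
  rw [← Category.assoc, bcHom_bcMap, Category.assoc]

end Squares

variable {a : S}

local notation "𝐜" => Nhd.cone S a
local notation "𝐬" => Nhd.sys S a
local notation "𝐭" => Nhd.toBase S a

/-- An étale model at a stage of a scheme over the local scheme. -/
structure Model {U : Scheme.{u}} (str : U ⟶ Spec (S.presheaf.stalk a)) (k : Nhd S a) : Type (u + 1) where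
  U' : Scheme.{u}
  str' : U' ⟶ 𝐬.obj k
  gU : U ⟶ U'
  isPullback : IsPullback gU str str' (𝐜.π.app k)
  etale : Etale str'
  qc : QuasiCompact str'
  qs : QuasiSeparated str'

variable {U : Scheme.{u}} {str : U ⟶ Spec (S.presheaf.stalk a)}

/-- Restriction of a model to a smaller neighbourhood. -/
def Model.shift {k l : Nhd S a} (M : Model str k) (h : l ⟶ k) : Model str l where
  U' := pullback M.str' (𝐬.map h)
  str' := pullback.snd _ _
  gU := pullback.lift M.gU (str ≫ 𝐜.π.app l) (by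
    rw [M.isPullback.w, Category.assoc]; exact congrArg (str ≫ ·) ((𝐜).w h).symm)
  isPullback := IsPullback.of_right (by
      rw [pullback.lift_fst, (𝐜).w h]; exact M.isPullback)
    (pullback.lift_snd _ _ _) (IsPullback.of_hasPullback M.str' (𝐬.map h))
  etale := MorphismProperty.pullback_snd _ _ M.etale
  qc := MorphismProperty.pullback_snd _ _ M.qc
  qs := MorphismProperty.pullback_snd _ _ M.qs

theorem exists_model [Etale str] [CompactSpace U] [QuasiSeparatedSpace U] : ∃ k, Nonempty (Model str k) := by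
  obtain ⟨hc⟩ := Nhd.nonempty_isLimit_cone S a
  haveI : ∀ k, CompactSpace (𝐬.obj k) := fun k => inferInstance
  haveI : ∀ k, QuasiSeparatedSpace (𝐬.obj k) := fun k => inferInstance
  haveI : ∀ (i j : Nhd S a) (f : i ⟶ j), IsAffineHom (𝐬.map f) := fun i j f => inferInstance
  haveI : QuasiCompact str := quasiCompact_of_compactSpace str
  haveI : QuasiSeparated str := QuasiSeparated.of_quasiSeparatedSpace str
  obtain ⟨k₀, U₀, f₀, g, hl, hqc, hqs, hpb⟩ := Groth.Agent.S0591.result (Nhd.sys S a) (Nhd.cone S a) hc U str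
  haveI : CompactSpace U₀ := QuasiCompact.compactSpace_of_compactSpace f₀
  have hY : IsPullback (𝐜.π.app k₀) (𝟙 _) (𝟙 (𝐬.obj k₀)) (𝐜.π.app k₀) :=
    IsPullback.of_vert_isIso ⟨by simp⟩
  obtain ⟨k, hk⟩ := FlatStage.exists_etale (Nhd.sys S a) (Nhd.cone S a) k₀ f₀ (𝟙 _) hY hpb hc
  haveI := hk
  haveI : Etale (pullback.snd (f₀ ≫ 𝟙 _) (𝐬.map k.hom)) := by
    haveI : IsIso (pullback.snd (𝟙 (𝐬.obj k₀)) (𝐬.map k.hom)) := inferInstance
    rw [show pullback.snd (f₀ ≫ 𝟙 _) (𝐬.map k.hom) =
      (AffLim.baseChangeMap (Nhd.sys S a) k₀ f₀ (𝟙 _)).app k ≫ pullback.snd (𝟙 _) (𝐬.map k.hom) by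
        simp [AffLim.baseChangeMap]]
    infer_instance
  refine ⟨k.left, ⟨{ U' := pullback (f₀ ≫ 𝟙 _) (𝐬.map k.hom)
                     str' := pullback.snd _ _
                     gU := pullback.lift g (str ≫ 𝐜.π.app k.left) (by
                       rw [Category.comp_id, hpb.w, Category.assoc]; exact congrArg (str ≫ ·) ((𝐜).w k.hom).symm)
                     isPullback := ?_
                     etale := inferInstance
                     qc := MorphismProperty.pullback_snd _ _ (by simpa using hqc)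
                     qs := MorphismProperty.pullback_snd _ _ (by simpa using hqs) }⟩⟩
  refine IsPullback.of_right ?_ (pullback.lift_snd _ _ _) (IsPullback.of_hasPullback _ _)
  rw [pullback.lift_fst, (𝐜).w k.hom, Category.comp_id]
  exact hpb

/-- A map extending the quotient map at a stage. -/
theorem exists_stage_map [LocallyOfFinitePresentation (dHom D)] [QuasiCompact (dHom D)] [QuasiSeparated (dHom D)]
    {π : pullback (dHom D) (S.fromSpecStalk a) ⟶ U} (hfac : π ≫ str = pullback.snd _ _) {k : Nhd S a}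
    (M : Model str k) :
    ∃ (l : Nhd S a) (N : Model str l) (π' : pullback (dHom D) (𝐭.app l) ⟶ N.U'),
      π' ≫ N.str' = pullback.snd _ _ ∧ π ≫ N.gU = bcMap (dHom D) (Nhd.π_toBase S a l) ≫ π' := by
  obtain ⟨hc⟩ := Nhd.nonempty_isLimit_bcone S a (dHom D)
  haveI := M.etale
  let f : M.U' ⟶ S := M.str' ≫ 𝐭.app k
  haveI : LocallyOfFinitePresentation f := inferInstance
  obtain ⟨i, m, hm, hm'⟩ := Scheme.exists_π_app_comp_eq_of_locallyOfFinitePresentation
    (Nhd.bsys S a (dHom D)) (Nhd.bsysToBase S a (dHom D)) f (Nhd.bcone S a (dHom D)) hc (π ≫ M.gU) (by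
      ext j
      show pullback.lift (pullback.fst _ _) (pullback.snd _ _ ≫ 𝐜.π.app j) _ ≫ pullback.fst _ _ ≫ dHom D = (π ≫ M.gU) ≫ f
      simp only [f, Category.assoc, reassoc_of% M.isPullback.w, reassoc_of% hfac, Nhd.π_toBase]
      rw [pullback.lift_fst_assoc, pullback.condition])
  let l := IsCofiltered.min i k
  let u := IsCofiltered.minToLeft i k
  let v := IsCofiltered.minToRight i k
  let N := M.shift v
  let m' := (Nhd.bsys S a (dHom D)).map u ≫ m
  have e1 : m' ≫ M.str' = pullback.snd (dHom D) (𝐭.app l) ≫ 𝐬.map v := by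
    rw [← cancel_mono (𝐭.app k)]
    simp only [m', Category.assoc]
    erw [hm', Nhd.map_toBase]
    simp only [Nhd.bsysToBase, Nhd.bsys, pullback.lift_fst_assoc]
    exact pullback.condition
  let π' : pullback (dHom D) (𝐭.app l) ⟶ pullback M.str' (𝐬.map v) := pullback.lift m' (pullback.snd _ _) e1
  refine ⟨l, N, π', pullback.lift_snd _ _ _, ?_⟩
  show π ≫ pullback.lift M.gU (str ≫ 𝐜.π.app l) _ = (Nhd.bcone S a (dHom D)).π.app l ≫ π'
  apply pullback.hom_ext
  · simp only [π', m', Category.assoc, pullback.lift_fst]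
    rw [(Nhd.bcone S a (dHom D)).w_assoc u, hm]
  · simp only [π', Category.assoc, pullback.lift_snd, reassoc_of% hfac]
    exact (pullback.lift_snd _ _ _).symm

/-- Restriction of a stage map. -/
theorem stage_shift {π : pullback (dHom D) (S.fromSpecStalk a) ⟶ U} (hfac : π ≫ str = pullback.snd _ _)
    {k l : Nhd S a} (h : l ⟶ k) (M : Model str k)
    (π₁ : pullback (dHom D) (𝐭.app k) ⟶ M.U') (h1 : π₁ ≫ M.str' = pullback.snd _ _)
    (h2 : π ≫ M.gU = bcMap (dHom D) (Nhd.π_toBase S a k) ≫ π₁) :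
    ∃ π' : pullback (dHom D) (𝐭.app l) ⟶ (M.shift h).U',
      π' ≫ (M.shift h).str' = pullback.snd _ _ ∧
      π ≫ (M.shift h).gU = bcMap (dHom D) (Nhd.π_toBase S a l) ≫ π' ∧
      π' ≫ pullback.fst M.str' (𝐬.map h) = bcMap (dHom D) (Nhd.map_toBase S a h) ≫ π₁ := by
  let π' : pullback (dHom D) (𝐭.app l) ⟶ pullback M.str' (𝐬.map h) :=
    pullback.lift (bcMap (dHom D) (Nhd.map_toBase S a h) ≫ π₁) (pullback.snd _ _)
      (by rw [Category.assoc, h1, pullback.lift_snd])
  refine ⟨π', pullback.lift_snd _ _ _, ?_, pullback.lift_fst _ _ _⟩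
  show π ≫ pullback.lift M.gU (str ≫ 𝐜.π.app l) _ = bcMap (dHom D) (Nhd.π_toBase S a l) ≫ π'
  refine pullback.hom_ext ?_ ?_
  · refine (Category.assoc _ _ _).trans ((congrArg (π ≫ ·) (pullback.lift_fst _ _ _)).trans (h2.trans ?_))
    refine Eq.trans ?_ ((Category.assoc _ _ _).trans (congrArg (_ ≫ ·) (pullback.lift_fst _ _ _))).symm
    refine Eq.trans ?_ (Category.assoc _ _ _)
    refine congrArg (· ≫ π₁) (pullback.hom_ext ?_ ?_)
    · simp
    · simp only [Category.assoc, pullback.lift_snd, pullback.lift_snd_assoc]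
      exact congrArg (_ ≫ ·) ((𝐜).w h).symm
  · refine (Category.assoc _ _ _).trans ((congrArg (π ≫ ·) (pullback.lift_snd _ _ _)).trans
      (((Category.assoc _ _ _).symm.trans (congrArg (· ≫ _) hfac)).trans ?_))
    refine Eq.trans ?_ ((Category.assoc _ _ _).trans (congrArg (_ ≫ ·) (pullback.lift_snd _ _ _))).symm
    exact (pullback.lift_snd _ _ _).symm

/-- Spreading of an étale quotient. -/
theorem exists_nhd_quot [LocallyOfFinitePresentation p] [QuasiCompact p] [QuasiSeparated p] [Surjective p]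
    [LocallyOfFinitePresentation D.obj.hom] [QuasiCompact D.obj.hom] [QuasiSeparated D.obj.hom]
    [Etale str] {π : pullback (dHom D) (S.fromSpecStalk a) ⟶ U} (hQ : IsQuot D (S.fromSpecStalk a) str π) :
    ∃ (k : Nhd S a) (V : Scheme.{u}) (t : V ⟶ 𝐬.obj k) (π' : pullback (dHom D) (𝐭.app k) ⟶ V),
      Etale t ∧ IsQuot D (𝐭.app k) t π' := by
  haveI : Surjective π := MorphismProperty.of_isPullback (P := @Surjective) hQ.isPullback.flip inferInstance
  haveI : QuasiCompact π := MorphismProperty.of_isPullback (P := @QuasiCompact) hQ.isPullback.flip inferInstance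
  haveI : CompactSpace ↥(pullback (dHom D) (S.fromSpecStalk a)) :=
    QuasiCompact.compactSpace_of_compactSpace (pullback.snd (dHom D) (S.fromSpecStalk a))
  haveI : QuasiSeparatedSpace ↥(pullback (dHom D) (S.fromSpecStalk a)) :=
    quasiSeparatedSpace_of_quasiSeparated (pullback.snd (dHom D) (S.fromSpecStalk a))
  haveI : CompactSpace U := ⟨by rw [← π.surjective.range_eq]; exact isCompact_range π.continuous⟩
  haveI : QuasiSeparatedSpace U := ⟨fun A B hA hAc hB hBc => by
    rw [← Set.image_preimage_eq (A ∩ B) π.surjective, Set.preimage_inter]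
    exact (QuasiSeparatedSpace.inter_isCompact _ _ (hA.preimage π.continuous) (π.isCompact_preimage (U := ⟨A, hA⟩) hAc)
      (hB.preimage π.continuous) (π.isCompact_preimage (U := ⟨B, hB⟩) hBc)).image π.continuous⟩
  obtain ⟨k₀, ⟨M₀⟩⟩ := exists_model (str := str)
  obtain ⟨k₁, M₁, π₁, h11, h12⟩ := exists_stage_map hQ.fac M₀
  -- invariance at a stage
  obtain ⟨hcp⟩ := Nhd.nonempty_isLimit_bcone S a (pairHom D)
  haveI := M₁.etale
  let f₁ : M₁.U' ⟶ S := M₁.str' ≫ 𝐭.app k₁
  obtain ⟨k₂, u, hu⟩ := Scheme.exists_hom_comp_eq_comp_of_locallyOfFiniteType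
    (Nhd.bsys S a (pairHom D)) (Nhd.bsysToBase S a (pairHom D)) f₁ (Nhd.bcone S a (pairHom D)) hcp (i := k₁)
    (bcHom (pullback.fst (dHom D) p) rfl (𝐭.app k₁) ≫ π₁)
    (bcHom (act D) (act_dHom D) (𝐭.app k₁) ≫ π₁)
    (by simp only [f₁, Category.assoc, reassoc_of% h11, pullback.lift_snd_assoc]; exact pullback.condition)
    (by simp only [f₁, Category.assoc, reassoc_of% h11, pullback.lift_snd_assoc]; exact pullback.condition)
    (by
      exact ((bcHom_bcMap' _ rfl (Nhd.π_toBase S a k₁) π₁).symm.trans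
        ((congrArg (_ ≫ ·) h12.symm).trans (((Category.assoc _ _ _).symm.trans
          (congrArg (· ≫ M₁.gU) hQ.inv)).trans ((Category.assoc _ _ _).trans (congrArg (_ ≫ ·) h12))))).trans
        (bcHom_bcMap' (act D) (act_dHom D) (Nhd.π_toBase S a k₁) π₁))
  obtain ⟨π₂, h21, h22, h23⟩ := stage_shift hQ.fac u M₁ π₁ h11 h12
  let M₂ := M₁.shift u
  have hinv2 : bcHom (pullback.fst (dHom D) p) rfl (𝐭.app k₂) ≫ π₂ = bcHom (act D) (act_dHom D) (𝐭.app k₂) ≫ π₂ := by
    refine pullback.hom_ext (f := M₁.str') (g := 𝐬.map u) ?_ ?_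
    · refine ((Category.assoc _ _ _).trans (congrArg (_ ≫ ·) h23)).trans (Eq.trans ?_
        ((Category.assoc _ _ _).trans (congrArg (_ ≫ ·) h23)).symm)
      exact (bcHom_bcMap' _ rfl (Nhd.map_toBase S a u) π₁).trans
        (hu.trans (bcHom_bcMap' (act D) (act_dHom D) (Nhd.map_toBase S a u) π₁).symm)
    · refine (Category.assoc _ _ _).trans (Eq.trans ?_ (Category.assoc _ _ _).symm)
      erw [h21]
      simp
  -- the square at a stage
  haveI := M₂.etale
  haveI := M₂.qc
  haveI := M₂.qs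
  obtain ⟨qY, hY, hX⟩ := squares h21 (Nhd.π_toBase S a k₂) M₂.isPullback hQ.fac h22
  haveI := isIso_sqMap hQ
  let g₀ : pullback (M₂.str' ≫ 𝐭.app k₂) p ⟶ 𝐬.obj k₂ := pullback.fst _ _ ≫ M₂.str'
  haveI : LocallyOfFinitePresentation (sqMap h21 ≫ g₀) := by
    rw [sqMap_fst_str]; infer_instance
  haveI : QuasiCompact (sqMap h21 ≫ g₀) := by
    rw [sqMap_fst_str]; infer_instance
  haveI : QuasiSeparated (sqMap h21 ≫ g₀) := by
    rw [sqMap_fst_str]; infer_instance
  obtain ⟨hc⟩ := Nhd.nonempty_isLimit_cone S a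
  haveI : ∀ (i j : Nhd S a) (f : i ⟶ j), IsAffineHom (𝐬.map f) := fun i j f => inferInstance
  obtain ⟨k₃, φ, Xj, Yj, fj, gj, pY, pX, hYj, hXj, hiso⟩ := Groth.Agent.S4805.result (Nhd.sys S a) (Nhd.cone S a)
    hc k₂ (sqMap h21) g₀ (sqMap hQ.fac) (pullback.fst _ _ ≫ str) qY (bcMap (dHom D) (Nhd.π_toBase S a k₂)) hY hX
  obtain ⟨π₃, h31, h32, h33⟩ := stage_shift hQ.fac φ M₂ π₂ h21 h22
  let M₃ := M₂.shift φ
  refine ⟨k₃, M₃.U', M₃.str', π₃, M₃.etale, h31, ?_, ?_⟩
  · refine pullback.hom_ext (f := M₂.str') (g := 𝐬.map φ) ?_ ?_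
    · refine ((Category.assoc _ _ _).trans (congrArg (_ ≫ ·) h33)).trans (Eq.trans ?_
        ((Category.assoc _ _ _).trans (congrArg (_ ≫ ·) h33)).symm)
      exact (bcHom_bcMap' _ rfl (Nhd.map_toBase S a φ) π₂).trans
        ((congrArg (_ ≫ ·) hinv2).trans (bcHom_bcMap' (act D) (act_dHom D) (Nhd.map_toBase S a φ) π₂).symm)
    · refine (Category.assoc _ _ _).trans (Eq.trans ?_ (Category.assoc _ _ _).symm)
      erw [h31]
      simp
  · obtain ⟨qY', hY', hX'⟩ := squares h21 (Nhd.map_toBase S a φ)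
      (IsPullback.of_hasPullback M₂.str' (𝐬.map φ)) h31 h33
    haveI : IsIso (sqMap h31) :=
      (AffLim.prop_iff_of_isPullback (MorphismProperty.isomorphisms Scheme.{u}) hX' hXj
        (hY'.isoIsPullback _ _ hYj) (hY'.isoIsPullback_hom_fst _ _ hYj)).2 hiso
    exact isPullback_of_isIso_sqMap h31

end Groth.Agent.SubmEtSpread
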